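import Groth.Agent.Lib.Ratliff.Equidim
import Groth.Agent.Lib.GRingComplete.Excellent
import Groth.Agent.Lib.Excellent.QuotientCompletion
import Groth.Agent.Lib.Excellent.FormalFibres
import Groth.Agent.Lib.Depth.Transfer
import Groth.Agent.Lib.Excellent.Localization
import Mathlib.RingTheory.Ideal.AssociatedPrime.Localization
import Mathlib.RingTheory.TensorProduct.Quotient

/-!
# Formally equidimensional local rings
-/

set_option autoImplicit false
set_option linter.style.haveILetI false
universe u

open IsLocalRing TensorProduct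

namespace GrothLib.Ratliff

theorem exists_completion_congr {R R' : Type u} [CommRing R] [CommRing R'] [IsLocalRing R] [IsLocalRing R']
    [IsNoetherianRing R] [IsNoetherianRing R'] (e : R ≃+* R') :
    Nonempty (AdicCompletion (maximalIdeal R) R ≃+* AdicCompletion (maximalIdeal R') R') := by
  letI : Algebra R R' := e.toRingHom.toAlgebra
  haveI : IsLocalHom (algebraMap R R') := ⟨fun a ha => (isUnit_map_iff e a).1 ha⟩
  obtain ⟨ψ, hψ⟩ := GrothLib.GeomReg.exists_completion_map R R'
  haveI hloc : IsLocalization (⊥ : Submonoid R) R' := GrothLib.Excellent.isLocalization_bot_of_bijective e.bijective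
  haveI : Module.Flat R R' := IsLocalization.flat R' (⊥ : Submonoid R)
  refine ⟨RingEquiv.ofBijective ψ (GrothLib.AdicExtra.bijective_completion ψ hψ ?_
    ⟨(ResidueField.map _).injective, fun y => ?_⟩)⟩
  · exact IsLocalRing.eq_maximalIdeal (Ideal.IsMaximal.map_bijective (algebraMap R R') e.bijective (maximalIdeal.isMaximal R))
  · obtain ⟨x, rfl⟩ := residue_surjective y
    obtain ⟨x, rfl⟩ := e.surjective x
    exact ⟨residue R x, ResidueField.map_residue _ _⟩

theorem isEquidim_congr {R S : Type u} [CommRing R] [CommRing S] (e : R ≃+* S) (h : EGA4.IsEquidim R) :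
    EGA4.IsEquidim S := by
  intro Q hQ
  have hQ' : Q.comap e.toRingHom ∈ minimalPrimes R := by
    haveI := hQ.1.1
    refine ⟨⟨Ideal.IsPrime.comap _, bot_le⟩, fun P hP hle => ?_⟩
    haveI := hP.1
    have h1 : Q ≤ P.comap e.symm.toRingHom := hQ.2 ⟨Ideal.IsPrime.comap _, bot_le⟩ fun s hs => by
      have h2 := hle hs
      rw [Ideal.mem_comap] at h2
      simpa using h2
    intro r hr
    have h2 := h1 hr
    rw [Ideal.mem_comap] at h2
    simpa using h2
  rw [← ringKrullDim_eq_of_ringEquiv e, ← h _ hQ']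
  refine (ringKrullDim_eq_of_ringEquiv (Ideal.quotientEquiv (Q.comap e.toRingHom) Q e ?_)).symm
  exact (Ideal.map_comap_of_surjective e.toRingHom e.surjective Q).symm

theorem isEquidim_congr_iff {R S : Type u} [CommRing R] [CommRing S] (e : R ≃+* S) :
    EGA4.IsEquidim R ↔ EGA4.IsEquidim S :=
  ⟨isEquidim_congr e, isEquidim_congr e.symm⟩

/-- A catenary local ring with a Cohen–Macaulay module of full support is equidimensional. -/
theorem isEquidim_of_cm (A : Type u) [CommRing A] [IsLocalRing A] [IsNoetherianRing A] (M : Type u) [AddCommGroup M]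
    [Module A M] [Module.Finite A M] (hCM : LocCoh.IsCohenMacaulayModule A M) (hsupp : Module.support A M = Set.univ) :
    EGA4.IsEquidim A ∧ Module.supportDim A M = ringKrullDim A := by
  have hdim : Module.supportDim A M = ringKrullDim A := by
    rw [Module.supportDim, hsupp]
    exact Order.krullDim_eq_of_orderIso OrderIso.Set.univ
  refine ⟨fun p hp => le_antisymm (ringKrullDim_le_of_surjective _ Ideal.Quotient.mk_surjective) ?_, hdim⟩
  haveI := hp.1.1
  have hann : p ∈ (Module.annihilator A M).minimalPrimes := by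
    have hle : Module.annihilator A M ≤ p :=
      Module.mem_support_iff_of_finite.1 (show (⟨p, inferInstance⟩ : PrimeSpectrum A) ∈ Module.support A M from
        hsupp ▸ Set.mem_univ _)
    exact ⟨⟨inferInstance, hle⟩, fun q hq hqp => hp.2 ⟨hq.1, bot_le⟩ hqp⟩
  have hass := Module.associatedPrimes.minimalPrimes_annihilator_subset_associatedPrimes A M hann
  rw [← hdim, hCM]
  exact GrothLib.Depth.depth_le_dim_quotient hass

variable {A : Type u} [CommRing A] [IsNoetherianRing A] [IsLocalRing A]

theorem isUniversallyCatenary_cpl : CAlg.IsUniversallyCatenary (EGA4.Cpl A) :=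
  GrothLib.GRingComplete.isUniversallyCatenary_of_isAdicComplete (AdicCompletion (maximalIdeal A) A)

theorem isCatenary_cpl : CAlg.IsCatenary (EGA4.Cpl A) :=
  (isUniversallyCatenary_cpl (A := A)).2 (EGA4.Cpl A) inferInstance

theorem qdim_maximal_map_cpl : qdim ((maximalIdeal A).map (algebraMap A (EGA4.Cpl A))) = 0 := by
  rw [qdim, ← AdicCompletion.maximalIdeal_eq_map, height_quot_eq_zero]
  exact (Ideal.minimalPrimes_eq_subsingleton_self (I := maximalIdeal (EGA4.Cpl A))).symm ▸ rfl

theorem ringKrullDim_cpl : ringKrullDim (EGA4.Cpl A) = ringKrullDim A := by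
  have := qdim_map (A := A) (A' := EGA4.Cpl A) (I := ⊥) bot_ne_top
  rw [Ideal.map_bot, qdim_maximal_map_cpl, add_zero] at this
  rw [ringKrullDim_eq, ringKrullDim_eq, this]

theorem exists_cpl_quot_equiv (a : Ideal A) [Nontrivial (A ⧸ a)] [IsLocalRing (A ⧸ a)] :
    Nonempty (EGA4.Cpl (A ⧸ a) ≃+* EGA4.Cpl A ⧸ a.map (algebraMap A (EGA4.Cpl A))) := by
  obtain ⟨e⟩ := GrothLib.Excellent.exists_cpl_quotient_equiv A a
  exact ⟨e.toRingEquiv.trans (Algebra.TensorProduct.quotIdealMapEquivQuotTensor (EGA4.Cpl A) a).toRingEquiv.symm⟩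

theorem isFormallyEquidim_quotient_iff (a : Ideal A) [Nontrivial (A ⧸ a)] [IsLocalRing (A ⧸ a)] :
    EGA4.IsFormallyEquidim (A ⧸ a) ↔ EGA4.IsEquidim (EGA4.Cpl A ⧸ a.map (algebraMap A (EGA4.Cpl A))) := by
  obtain ⟨e⟩ := exists_cpl_quot_equiv a
  exact isEquidim_congr_iff e

/-- Formally equidimensional implies equidimensional and catenary, and passes to equidimensional quotients. -/
theorem formallyEquidim_basic (h : EGA4.IsFormallyEquidim A) :
    (EGA4.IsEquidim A ∧ CAlg.IsCatenary A) ∧
      ∀ (a : Ideal A) [Nontrivial (A ⧸ a)] [IsLocalRing (A ⧸ a)],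
        (EGA4.IsEquidim (A ⧸ a) ↔ EGA4.IsFormallyEquidim (A ⧸ a)) := by
  have h' : EGA4.IsEquidim (EGA4.Cpl A) := h
  exact ⟨isEquidim_and_isCatenary_of_flat (A' := EGA4.Cpl A) h' isCatenary_cpl, fun a _ _ =>
    ((isFormallyEquidim_quotient_iff a).trans
      (isEquidim_quotient_map_iff (A' := EGA4.Cpl A) h' isCatenary_cpl a)).symm⟩

/-- Formal equidimensionality is checked on the components. -/
theorem isFormallyEquidim_iff :
    EGA4.IsFormallyEquidim A ↔ (EGA4.IsEquidim A ∧
      ∀ (p : Ideal A) [p.IsPrime], p ∈ minimalPrimes A → EGA4.IsFormallyEquidim (A ⧸ p)) := by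
  constructor
  · intro h
    refine ⟨(formallyEquidim_basic h).1.1, fun p _ hp => ?_⟩
    refine ((formallyEquidim_basic h).2 p).1 fun q hq => ?_
    rw [IsDomain.minimalPrimes_eq_singleton_bot, Set.mem_singleton_iff] at hq
    subst hq
    exact ringKrullDim_eq_of_ringEquiv (RingEquiv.quotientBot (A ⧸ p))
  · rintro ⟨heq, hcomp⟩
    show EGA4.IsEquidim (EGA4.Cpl A)
    rw [isEquidim_iff]
    intro P hP
    haveI := hP.1.1
    obtain ⟨p, hp, hple⟩ := Ideal.exists_minimalPrimes_le (I := (⊥ : Ideal A)) (J := P.under A) bot_le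
    haveI := hp.1.1
    haveI : P.LiesOver (P.under A) := ⟨rfl⟩
    obtain ⟨P1, hP1, hP1prime, hP1p⟩ := P.exists_ideal_le_liesOver_of_le (p := p) (q := P.under A) hple
    obtain rfl := le_antisymm (hP.2 ⟨hP1prime, bot_le⟩ hP1) hP1
    have hPmin : P ∈ (p.map (algebraMap A (EGA4.Cpl A))).minimalPrimes :=
      ⟨⟨inferInstance, Ideal.map_le_iff_le_comap.2 hP1p.over.le⟩, fun P' hP' hle => hP.2 ⟨hP'.1, bot_le⟩ hle⟩
    have h1 : EGA4.IsEquidim (EGA4.Cpl A ⧸ p.map (algebraMap A (EGA4.Cpl A))) :=
      (isFormallyEquidim_quotient_iff p).1 (hcomp p hp)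
    rw [isEquidim_quotient_iff (map_ne_top hp.1.1.ne_top)] at h1
    rw [h1 P hPmin, qdim_map hp.1.1.ne_top, isEquidim_iff.1 heq p hp, qdim_maximal_map_cpl, add_zero]
    have := qdim_map (A := A) (A' := EGA4.Cpl A) (I := ⊥) bot_ne_top
    rw [Ideal.map_bot, qdim_maximal_map_cpl, add_zero] at this
    exact this.symm

/-- A local ring with a Cohen–Macaulay module of full support is formally equidimensional. -/
theorem isFormallyEquidim_of_cm (M : Type u) [AddCommGroup M] [Module A M] [Module.Finite A M]
    (hCM : LocCoh.IsCohenMacaulayModule A M) (hsupp : Module.support A M = Set.univ) :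
    EGA4.IsFormallyEquidim A := by
  let C := EGA4.Cpl A
  haveI : Module.FaithfullyFlat A C := GrothLib.Excellent.faithfullyFlat_cpl A
  haveI : IsNoetherianRing C := isUniversallyCatenary_cpl.1
  have hsupp' : Module.support C (C ⊗[A] M) = Set.univ := Set.eq_univ_of_forall fun Q => by
    rw [Module.mem_support_iff_nontrivial_residueField_tensorProduct]
    rw [(AlgebraTensorModule.cancelBaseChange A C Q.asIdeal.ResidueField Q.asIdeal.ResidueField M).nontrivial_congr]
    let q := Q.asIdeal.comap (algebraMap A C)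
    let φ : q.ResidueField →+* Q.asIdeal.ResidueField :=
      (Ideal.ResidueField.mapₐ q Q.asIdeal (Algebra.ofId A C) rfl).toRingHom
    letI : Algebra q.ResidueField Q.asIdeal.ResidueField := φ.toAlgebra
    haveI : IsScalarTower A q.ResidueField Q.asIdeal.ResidueField := IsScalarTower.of_algebraMap_eq fun x =>
      ((Ideal.ResidueField.mapₐ q Q.asIdeal (Algebra.ofId A C) rfl).commutes x).symm
    haveI : Nontrivial (q.ResidueField ⊗[A] M) :=
      (Module.mem_support_iff_nontrivial_residueField_tensorProduct ⟨q, inferInstance⟩).1 (hsupp ▸ Set.mem_univ _)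
    rw [← (AlgebraTensorModule.cancelBaseChange A q.ResidueField q.ResidueField Q.asIdeal.ResidueField M).nontrivial_congr]
    exact Module.FaithfullyFlat.lTensor_nontrivial q.ResidueField Q.asIdeal.ResidueField (q.ResidueField ⊗[A] M)
  have hdepth : LocCoh.depth C (C ⊗[A] M) = LocCoh.depth A M := by
    have h := GrothLib.Depth.idealDepth_baseChange_eq (B := C) (maximalIdeal A) M
    rw [← AdicCompletion.maximalIdeal_eq_map] at h
    exact h
  refine (isEquidim_of_cm C (C ⊗[A] M) ?_ hsupp').1
  have h1 : Module.supportDim C (C ⊗[A] M) = ringKrullDim C := by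
    rw [Module.supportDim, hsupp']
    exact Order.krullDim_eq_of_orderIso OrderIso.Set.univ
  show Module.supportDim C (C ⊗[A] M) = _
  rw [h1, hdepth, show ringKrullDim C = ringKrullDim A from ringKrullDim_cpl, ← (isEquidim_of_cm A M hCM hsupp).2]
  exact hCM

/-- A quotient of a Cohen–Macaulay local ring is formally catenary. -/
theorem isFormallyCatenary_of_surjective {B : Type u} [CommRing B] [LocCoh.IsCohenMacaulayLocalRing B]
    [Algebra B A] (hs : Function.Surjective (algebraMap B A)) : EGA4.IsFormallyCatenary A := by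
  intro p _
  have hB : EGA4.IsFormallyEquidim B := isFormallyEquidim_of_cm B
    LocCoh.IsCohenMacaulayLocalRing.supportDim_eq_depth
    (Set.eq_univ_of_forall fun q => by
      rw [Module.mem_support_iff_of_finite, Module.annihilator_eq_bot.2 inferInstance]
      exact bot_le)
  let a := RingHom.ker ((Ideal.Quotient.mk p).comp (algebraMap B A))
  haveI : a.IsPrime := RingHom.ker_isPrime _
  let e : B ⧸ a ≃+* A ⧸ p := RingHom.quotientKerEquivOfSurjective (Ideal.Quotient.mk_surjective.comp hs)
  haveI : IsLocalRing (B ⧸ a) := IsLocalRing.of_surjective' (Ideal.Quotient.mk a) Ideal.Quotient.mk_surjective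
  have h1 : EGA4.IsFormallyEquidim (B ⧸ a) := ((formallyEquidim_basic hB).2 a).1 fun q hq => by
    rw [IsDomain.minimalPrimes_eq_singleton_bot, Set.mem_singleton_iff] at hq
    subst hq
    exact ringKrullDim_eq_of_ringEquiv (RingEquiv.quotientBot (B ⧸ a))
  obtain ⟨e'⟩ := exists_completion_congr e
  exact isEquidim_congr e' h1

end GrothLib.Ratliff
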