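import Groth.Agent.Lib.Ratliff.Basic
import Groth.Agent.Lib.CatBasics.Basic
import Groth.Agent.Lib.CatCM.Basic
import Mathlib.RingTheory.TensorProduct.MvPolynomial
import Mathlib.RingTheory.Flat.FaithfullyFlat.Algebra
import Groth.Prelude.Def_EGA4b

/-!
# Universal catenarity by descent from an equidimensional universally catenary extension
-/

set_option autoImplicit false
set_option linter.style.haveILetI false
universe u

open TensorProduct

namespace GrothLib.Ratliff

variable {A A' : Type u} [CommRing A] [IsDomain A] [IsNoetherianRing A] [CommRing A'] [IsLocalRing A']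
  [Algebra A A'] [Module.FaithfullyFlat A A'] {n : ℕ}

attribute [local instance] MvPolynomial.algebraMvPolynomial

omit [IsDomain A] [IsNoetherianRing A] [IsLocalRing A'] in
theorem faithfullyFlat_mvPolynomial :
    Module.FaithfullyFlat (MvPolynomial (Fin n) A) (MvPolynomial (Fin n) A') :=
  Module.FaithfullyFlat.of_linearEquiv _ _
    (Algebra.IsPushout.equiv A (MvPolynomial (Fin n) A) A' (MvPolynomial (Fin n) A')).symm.toLinearEquiv

omit [IsDomain A] [IsNoetherianRing A] [IsLocalRing A'] in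
/-- Going down along a flat base change. -/
theorem comap_C_mem_minimalPrimes_of_flat (P : Ideal (MvPolynomial (Fin n) A)) (Q : Ideal (MvPolynomial (Fin n) A'))
    (hQ : Q ∈ (P.map (algebraMap (MvPolynomial (Fin n) A) (MvPolynomial (Fin n) A'))).minimalPrimes)
    (V : Type u) [CommRing V] [Algebra A V] [Module.Flat A V] (ι : MvPolynomial (Fin n) A →ₐ[A] V)
    (hι : ∀ x ∈ P, ι x = 0) {F : Type u} [Field F] [Algebra A F] (φV : V →ₐ[A] F) (φA : A' →ₐ[A] F)
    (j : MvPolynomial (Fin n) A' →+* F) (hjC : ∀ a, j (MvPolynomial.C a) = φA a)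
    (hjX : ∀ i, j (MvPolynomial.X i) = φV (ι (MvPolynomial.X i))) (hjker : RingHom.ker j = Q) :
    Q.comap MvPolynomial.C ∈ minimalPrimes A' := by
  let R := MvPolynomial (Fin n) A
  let R' := MvPolynomial (Fin n) A'
  let T := A' ⊗[A] V
  haveI : Module.Flat A' T := inferInstance
  let g : T →ₐ[A] F := Algebra.TensorProduct.lift φA φV fun _ _ => Commute.all _ _
  let f : R' →+* T := MvPolynomial.eval₂Hom (algebraMap A' T) fun i => (1 : A') ⊗ₜ[A] ι (MvPolynomial.X i)
  have hgf : g.toRingHom.comp f = j := by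
    refine MvPolynomial.ringHom_ext (fun a => ?_) (fun i => ?_)
    · show g (f (MvPolynomial.C a)) = _
      rw [show f (MvPolynomial.C a) = a ⊗ₜ[A] (1 : V) from MvPolynomial.eval₂Hom_C _ _ a, hjC]
      show φA a * φV 1 = _
      rw [map_one, mul_one]
    · show g (f (MvPolynomial.X i)) = _
      rw [show f (MvPolynomial.X i) = (1 : A') ⊗ₜ[A] ι (MvPolynomial.X i) from MvPolynomial.eval₂Hom_X' _ _ i, hjX]
      show φA 1 * φV (ι (MvPolynomial.X i)) = _
      rw [map_one, one_mul]
  have hfι : f.comp (algebraMap R R') = (Algebra.TensorProduct.includeRight : V →ₐ[A] T).toRingHom.comp ι.toRingHom := by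
    refine MvPolynomial.ringHom_ext (fun a => ?_) (fun i => ?_)
    · show f (MvPolynomial.map (algebraMap A A') (MvPolynomial.C a)) =
        (Algebra.TensorProduct.includeRight : V →ₐ[A] T) (ι (algebraMap A R a))
      rw [MvPolynomial.map_C, show f (MvPolynomial.C (algebraMap A A' a)) = algebraMap A' T (algebraMap A A' a) from
        MvPolynomial.eval₂Hom_C _ _ _, ← IsScalarTower.algebraMap_apply, AlgHom.commutes, AlgHom.commutes]
    · show f (MvPolynomial.map (algebraMap A A') (MvPolynomial.X i)) = _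
      rw [MvPolynomial.map_X, show f (MvPolynomial.X i) = (1 : A') ⊗ₜ[A] ι (MvPolynomial.X i) from
        MvPolynomial.eval₂Hom_X' _ _ i]
      rfl
  have hfP : (P.map (algebraMap R R')).map f = ⊥ := by
    rw [Ideal.map_map, eq_bot_iff, Ideal.map_le_iff_le_comap]
    intro x hx
    show f.comp (algebraMap R R') x ∈ (⊥ : Ideal T)
    rw [hfι, Submodule.mem_bot]
    show (Algebra.TensorProduct.includeRight : V →ₐ[A] T) (ι x) = 0
    rw [hι x hx, map_zero]
  let W : Ideal T := RingHom.ker g.toRingHom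
  haveI : W.IsPrime := RingHom.ker_isPrime _
  have hWQ : W.comap f = Q := by rw [RingHom.comap_ker, hgf, hjker]
  have hfC : f.comp MvPolynomial.C = algebraMap A' T := RingHom.ext fun a => MvPolynomial.eval₂Hom_C _ _ a
  haveI := hQ.1.1
  obtain ⟨q1, hq1, hq1le⟩ := Ideal.exists_minimalPrimes_le (I := (⊥ : Ideal A')) (J := Q.comap MvPolynomial.C) bot_le
  haveI := hq1.1.1
  have hWA : W.under A' = Q.comap MvPolynomial.C := by
    show W.comap (algebraMap A' T) = _
    rw [← hfC, ← Ideal.comap_comap, hWQ]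
  haveI : W.LiesOver (W.under A') := ⟨rfl⟩
  obtain ⟨W1, hW1le, _, hW1⟩ := W.exists_ideal_le_liesOver_of_le (p := q1) (q := W.under A') (hWA ▸ hq1le)
  have h1 : W1.comap f ≤ Q := hWQ ▸ Ideal.comap_mono hW1le
  have h2 : P.map (algebraMap R R') ≤ W1.comap f := Ideal.map_le_iff_le_comap.1 (hfP ▸ bot_le)
  have h3 : W1.comap f = Q := le_antisymm h1 (hQ.2 ⟨inferInstance, h2⟩ h1)
  have h4 : q1 = Q.comap MvPolynomial.C := by
    rw [hW1.over, ← h3, Ideal.comap_comap, hfC]
  exact h4 ▸ hq1

omit [IsNoetherianRing A] [IsLocalRing A'] in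
/-- A minimal prime over a prime meeting `A` in zero contracts to a minimal prime of `A'`. -/
theorem comap_C_mem_minimalPrimes (P : Ideal (MvPolynomial (Fin n) A)) [P.IsPrime] (hP : P.comap MvPolynomial.C = ⊥)
    (Q : Ideal (MvPolynomial (Fin n) A'))
    (hQ : Q ∈ (P.map (algebraMap (MvPolynomial (Fin n) A) (MvPolynomial (Fin n) A'))).minimalPrimes) :
    Q.comap MvPolynomial.C ∈ minimalPrimes A' := by
  haveI := faithfullyFlat_mvPolynomial (A := A) (A' := A') (n := n)
  haveI := hQ.1.1
  let R := MvPolynomial (Fin n) A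
  let R' := MvPolynomial (Fin n) A'
  let S := R ⧸ P
  let K := FractionRing A
  let F := FractionRing (R' ⧸ Q)
  let j : R' →+* F := (algebraMap (R' ⧸ Q) F).comp (Ideal.Quotient.mk Q)
  have hjker : RingHom.ker j = Q := by
    rw [← RingHom.comap_ker, (RingHom.injective_iff_ker_eq_bot _).1
      (IsFractionRing.injective (R' ⧸ Q) F), ← RingHom.ker_eq_comap_bot, Ideal.mk_ker]
  let φA : A' →ₐ[A] F := IsScalarTower.toAlgHom A A' F
  have hjC : ∀ a, j (MvPolynomial.C a) = φA a := fun a => (IsScalarTower.algebraMap_apply A' (R' ⧸ Q) F a).symm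
  have hf₀ : ∀ x, j (algebraMap R R' x) = 0 ↔ x ∈ P := fun x => by
    rw [← RingHom.mem_ker, hjker, ← comap_of_minimalPrimes P hQ, Ideal.mem_comap]
  have hA : ∀ a : A, algebraMap A F a = j (algebraMap R R' (MvPolynomial.C a)) := fun a => by
    show _ = j (MvPolynomial.map (algebraMap A A') (MvPolynomial.C a))
    rw [MvPolynomial.map_C, hjC]
    exact IsScalarTower.algebraMap_apply A A' F a
  have hinj : Function.Injective (algebraMap A F) := (injective_iff_map_eq_zero _).2 fun a ha => by
    rw [hA, hf₀] at ha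
    rw [← Submodule.mem_bot A, ← hP]
    exact ha
  let φK : K →ₐ[A] F := IsFractionRing.liftAlgHom (g := Algebra.ofId A F) hinj
  let φS : S →ₐ[A] F := Ideal.Quotient.liftₐ P { j.comp (algebraMap R R') with commutes' := fun a => (hA a).symm }
    fun x hx => (hf₀ x).2 hx
  haveI : Module.Flat A (K ⊗[A] S) := Module.Flat.trans A K (K ⊗[A] S)
  refine comap_C_mem_minimalPrimes_of_flat P Q hQ (K ⊗[A] S)
    ((Algebra.TensorProduct.includeRight : S →ₐ[A] K ⊗[A] S).comp (Ideal.Quotient.mkₐ A P)) (fun x hx => ?_)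
    (Algebra.TensorProduct.lift φK φS fun _ _ => Commute.all _ _) φA j hjC (fun i => ?_) hjker
  · show (Algebra.TensorProduct.includeRight : S →ₐ[A] K ⊗[A] S) (Ideal.Quotient.mk P x) = 0
    rw [Ideal.Quotient.eq_zero_iff_mem.2 hx, map_zero]
  · show j (MvPolynomial.X i) = φK 1 * φS (Ideal.Quotient.mk P (MvPolynomial.X i))
    rw [map_one, one_mul]
    show _ = j (MvPolynomial.map (algebraMap A A') (MvPolynomial.X i))
    rw [MvPolynomial.map_X]

omit [IsDomain A] in
/-- Heights above a minimal prime, relative to the extension of the minimal prime below. -/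
theorem height_quot_const [IsNoetherianRing A'] (hUC : CAlg.IsUniversallyCatenary A') (heq : EGA4.IsEquidim A')
    (q0 : Ideal A') [q0.IsPrime] (hq0 : q0 ∈ minimalPrimes A') (x : Ideal (MvPolynomial (Fin n) A')) [x.IsPrime]
    (hx : q0.map MvPolynomial.C ≤ x) :
    (x.map (Ideal.Quotient.mk (q0.map MvPolynomial.C))).height + ((IsLocalRing.maximalIdeal A').map (Ideal.Quotient.mk (x.comap MvPolynomial.C))).height =
      (IsLocalRing.maximalIdeal A').height + (x.map (Ideal.Quotient.mk ((x.comap MvPolynomial.C).map MvPolynomial.C))).height := by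
  set r := x.comap MvPolynomial.C
  haveI : r.IsPrime := Ideal.IsPrime.comap _
  have hr : q0 ≤ r := Ideal.map_le_iff_le_comap.1 hx
  have hm : r ≤ IsLocalRing.maximalIdeal A' := IsLocalRing.le_maximalIdeal (Ideal.IsPrime.ne_top inferInstance)
  have h1 := height_quot_eq_add (R := A') (S := MvPolynomial (Fin n) A') q0 r x rfl hr
  rw [MvPolynomial.algebraMap_eq] at h1
  have hcat : CAlg.IsCatenary (A' ⧸ q0) := hUC.2 (A' ⧸ q0) inferInstance
  have h2 := height_quot_add q0 r (IsLocalRing.maximalIdeal A') hr hm hcat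
  have h3 : ((IsLocalRing.maximalIdeal A').map (Ideal.Quotient.mk q0)).height = (IsLocalRing.maximalIdeal A').height := by
    haveI : IsLocalRing (A' ⧸ q0) := IsLocalRing.of_surjective' (Ideal.Quotient.mk q0) Ideal.Quotient.mk_surjective
    haveI : ((IsLocalRing.maximalIdeal A').map (Ideal.Quotient.mk q0)).IsMaximal :=
      Ideal.IsMaximal.map_of_surjective_of_ker_le Ideal.Quotient.mk_surjective (by rw [Ideal.mk_ker]; exact hr.trans hm)
    rw [IsLocalRing.eq_maximalIdeal ‹((IsLocalRing.maximalIdeal A').map (Ideal.Quotient.mk q0)).IsMaximal›]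
    refine WithBot.coe_injective ?_
    rw [IsLocalRing.maximalIdeal_height_eq_ringKrullDim, IsLocalRing.maximalIdeal_height_eq_ringKrullDim]
    exact heq q0 hq0
  rw [h1, ← h3, h2]
  ring

/-- Equidimensionality of the extension of a prime. -/
theorem height_quot_unique [IsNoetherianRing A'] (hUC : CAlg.IsUniversallyCatenary A') (heq : EGA4.IsEquidim A')
    (P : Ideal (MvPolynomial (Fin n) A)) [P.IsPrime] (hP : P.comap MvPolynomial.C = ⊥)
    (x : Ideal (MvPolynomial (Fin n) A')) [x.IsPrime] (Q : Ideal (MvPolynomial (Fin n) A'))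
    (hQ : Q ∈ (P.map (algebraMap (MvPolynomial (Fin n) A) (MvPolynomial (Fin n) A'))).minimalPrimes) (hQx : Q ≤ x) :
    P.height + (x.map (Ideal.Quotient.mk Q)).height + ((IsLocalRing.maximalIdeal A').map (Ideal.Quotient.mk (x.comap MvPolynomial.C))).height =
      (IsLocalRing.maximalIdeal A').height + (x.map (Ideal.Quotient.mk ((x.comap MvPolynomial.C).map MvPolynomial.C))).height := by
  haveI := hQ.1.1
  haveI := faithfullyFlat_mvPolynomial (A := A) (A' := A') (n := n)
  let R := MvPolynomial (Fin n) A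
  let R' := MvPolynomial (Fin n) A'
  set q0 := Q.comap MvPolynomial.C
  haveI : q0.IsPrime := Ideal.IsPrime.comap _
  have hq0 : q0 ∈ minimalPrimes A' := comap_C_mem_minimalPrimes P hP Q hQ
  let Q0 : Ideal R' := q0.map MvPolynomial.C
  haveI : Q0.IsPrime := by
    have : Q0 = RingHom.ker (MvPolynomial.map (σ := Fin n) (Ideal.Quotient.mk q0)) := by
      rw [MvPolynomial.ker_map, Ideal.mk_ker]
    rw [this]
    exact RingHom.ker_isPrime _
  have hQ0 : Q0 ≤ Q := Ideal.map_comap_le
  have hQh : Q.height = P.height := by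
    haveI : Q.LiesOver P := ⟨(comap_of_minimalPrimes P hQ).symm⟩
    rw [Ideal.height_eq_height_add_of_liesOver_of_hasGoingDown P Q, height_quot_eq_zero hQ, add_zero]
  have hQQ0 : (Q.map (Ideal.Quotient.mk Q0)).height = P.height := by
    haveI : Algebra.FiniteType A' R' := inferInstance
    rw [← hQh]
    obtain ⟨Q1, hQ1, hQ1Q, h⟩ := exists_minimal_height (⊥ : Ideal R') Q bot_le
    haveI := hQ1.1.1
    have hh : Q.height = (Q.map (Ideal.Quotient.mk Q1)).height := by
      rw [← h, ← (RingEquiv.quotientBot R').symm.height_map Q]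
      rfl
    have : Q0 = Q1 := by
      have h1 : Q0 ≤ Q1 := by
        refine Ideal.map_le_iff_le_comap.2 ?_
        exact hq0.2 ⟨Ideal.IsPrime.comap _, bot_le⟩ (Ideal.comap_mono hQ1Q)
      exact le_antisymm h1 (hQ1.2 ⟨inferInstance, bot_le⟩ h1)
    rw [hh, this]
  have hcat : CAlg.IsCatenary (R' ⧸ Q0) := hUC.2 (R' ⧸ Q0) inferInstance
  rw [← height_quot_const hUC heq q0 hq0 x (hQ0.trans hQx), height_quot_add Q0 Q x hQ0 hQx hcat, hQQ0]

/-- Subadditivity of heights in a polynomial domain. -/
theorem height_quot_le [IsNoetherianRing A'] (hUC : CAlg.IsUniversallyCatenary A') (heq : EGA4.IsEquidim A')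
    (P p q : Ideal (MvPolynomial (Fin n) A)) [P.IsPrime] [p.IsPrime] [q.IsPrime]
    (hP : P.comap MvPolynomial.C = ⊥) (hPp : P ≤ p) (hpq : p ≤ q) :
    (q.map (Ideal.Quotient.mk P)).height ≤
      (p.map (Ideal.Quotient.mk P)).height + (q.map (Ideal.Quotient.mk p)).height := by
  haveI := faithfullyFlat_mvPolynomial (A := A) (A' := A') (n := n)
  let R := MvPolynomial (Fin n) A
  let R' := MvPolynomial (Fin n) A'
  -- primes upstairs
  obtain ⟨w, hw⟩ := PrimeSpectrum.comap_surjective_of_faithfullyFlat (B := R') (⟨q, inferInstance⟩ : PrimeSpectrum R)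
  have hwq : w.asIdeal.comap (algebraMap R R') = q := congrArg PrimeSpectrum.asIdeal hw
  obtain ⟨q', hq', hq'w⟩ := Ideal.exists_minimalPrimes_le (Ideal.map_le_iff_le_comap.2 hwq.ge :
    q.map (algebraMap R R') ≤ w.asIdeal)
  haveI := hq'.1.1
  have hq'q : q'.comap (algebraMap R R') = q := comap_of_minimalPrimes q hq'
  haveI : q'.LiesOver q := ⟨hq'q.symm⟩
  obtain ⟨p1, hp1, _, hp1p⟩ := q'.exists_ideal_le_liesOver_of_le (p := p) (q := q) hpq
  obtain ⟨Q', hQ', hQ'p1⟩ := Ideal.exists_minimalPrimes_le (Ideal.map_le_iff_le_comap.2 hp1p.over.le :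
    p.map (algebraMap R R') ≤ p1)
  haveI := hQ'.1.1
  have hQ'p : Q'.comap (algebraMap R R') = p := comap_of_minimalPrimes p hQ'
  obtain ⟨Q, hQ, hQQ'⟩ := Ideal.exists_minimalPrimes_le ((Ideal.map_mono hPp).trans hQ'.1.2 :
    P.map (algebraMap R R') ≤ Q')
  haveI := hQ.1.1
  have hQ'q' : Q' ≤ q' := hQ'p1.trans hp1
  have hQq' : Q ≤ q' := hQQ'.trans hQ'q'
  -- the height of `q'` over `P R'` is attained along `Q`
  have hsame : (q'.map (Ideal.Quotient.mk (P.map (algebraMap R R')))).height =
      (q'.map (Ideal.Quotient.mk Q)).height := by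
    obtain ⟨Q2, hQ2, hQ2q', h⟩ := exists_minimal_height (P.map (algebraMap R R')) q' (hQ.1.2.trans hQq')
    rw [h]
    have e1 := height_quot_unique hUC heq P hP q' Q hQ hQq'
    rw [← height_quot_unique hUC heq P hP q' Q2 hQ2 hQ2q'] at e1
    obtain ⟨a, ha⟩ := ENat.ne_top_iff_exists.1 (Ideal.height_ne_top (I := P) Ideal.IsPrime.ne_top')
    obtain ⟨b, hb⟩ := ENat.ne_top_iff_exists.1 (Ideal.height_ne_top
      (I := (IsLocalRing.maximalIdeal A').map (Ideal.Quotient.mk (q'.comap MvPolynomial.C)))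
      (fun htop => by
        haveI : ((IsLocalRing.maximalIdeal A').map (Ideal.Quotient.mk (q'.comap MvPolynomial.C))).IsPrime :=
          Ideal.isPrime_map_quotientMk_of_isPrime (IsLocalRing.le_maximalIdeal (Ideal.IsPrime.ne_top inferInstance))
        exact Ideal.IsPrime.ne_top inferInstance htop))
    rw [← ha, ← hb] at e1
    generalize (q'.map (Ideal.Quotient.mk Q)).height = u at e1 ⊢
    generalize (q'.map (Ideal.Quotient.mk Q2)).height = v at e1 ⊢
    induction u using ENat.recTopCoe <;> induction v using ENat.recTopCoe <;> norm_cast at e1 ⊢ <;> simp_all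
  have hcat : CAlg.IsCatenary (R' ⧸ Q) := hUC.2 (R' ⧸ Q) inferInstance
  calc (q.map (Ideal.Quotient.mk P)).height
      = (q'.map (Ideal.Quotient.mk (P.map (algebraMap R R')))).height :=
        (height_quot_minimal P q q' hq'q hq' (hPp.trans hpq)).symm
    _ = (Q'.map (Ideal.Quotient.mk Q)).height + (q'.map (Ideal.Quotient.mk Q')).height := by
        rw [hsame, height_quot_add Q Q' q' hQQ' hQ'q' hcat]
    _ ≤ (Q'.map (Ideal.Quotient.mk (P.map (algebraMap R R')))).height +
        (q'.map (Ideal.Quotient.mk (p.map (algebraMap R R')))).height :=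
        add_le_add (height_quot_mono _ Q Q' hQ.1.2 hQQ') (height_quot_mono _ Q' q' hQ'.1.2 hQ'q')
    _ = _ := by
        rw [height_quot_minimal P p Q' hQ'p hQ' hPp, height_quot_minimal p q q' hq'q hq' hpq]

/-- A polynomial domain over the base is catenary. -/
theorem isCatenary_quotient [IsNoetherianRing A'] (hUC : CAlg.IsUniversallyCatenary A') (heq : EGA4.IsEquidim A')
    (P : Ideal (MvPolynomial (Fin n) A)) [P.IsPrime] (hP : P.comap MvPolynomial.C = ⊥) :
    CAlg.IsCatenary (MvPolynomial (Fin n) A ⧸ P) := by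
  refine GrothLib.CatCM.isCatenary_of_height_covBy fun x y hxy => ?_
  refine le_antisymm ?_ (Order.add_one_le_of_lt
    (Ideal.height_strict_mono_of_isPrime (show x.asIdeal < y.asIdeal from hxy.lt)))
  let p := x.asIdeal.comap (Ideal.Quotient.mk P)
  let q := y.asIdeal.comap (Ideal.Quotient.mk P)
  have hPp : P ≤ p := fun r hr => by
    rw [Ideal.mem_comap, Ideal.Quotient.eq_zero_iff_mem.2 hr]
    exact zero_mem _
  have hpq : p ≤ q := Ideal.comap_mono hxy.lt.le
  have h := height_quot_le hUC heq P p q hP hPp hpq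
  rw [Ideal.map_comap_of_surjective _ Ideal.Quotient.mk_surjective,
    Ideal.map_comap_of_surjective _ Ideal.Quotient.mk_surjective] at h
  refine h.trans (add_le_add le_rfl ?_)
  haveI : (q.map (Ideal.Quotient.mk p)).IsPrime := Ideal.isPrime_map_quotientMk_of_isPrime hpq
  refine (Ideal.height_le_iff (n := 1)).2 fun z hz hlt => ?_
  haveI := hz
  have hzp : p ≤ z.comap (Ideal.Quotient.mk p) := fun r hr => by
    rw [Ideal.mem_comap, Ideal.Quotient.eq_zero_iff_mem.2 hr]
    exact zero_mem _
  have hzq : z.comap (Ideal.Quotient.mk p) < q := by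
    refine lt_of_le_of_ne ?_ fun he => hlt.ne ?_
    · refine (Ideal.comap_mono hlt.le).trans ?_
      rw [Ideal.comap_map_of_surjective' _ Ideal.Quotient.mk_surjective, Ideal.mk_ker, sup_eq_left.2 hpq]
    · rw [← he, Ideal.map_comap_of_surjective _ Ideal.Quotient.mk_surjective]
  let t : PrimeSpectrum (MvPolynomial (Fin n) A ⧸ P) :=
    ⟨(z.comap (Ideal.Quotient.mk p)).map (Ideal.Quotient.mk P), Ideal.isPrime_map_quotientMk_of_isPrime (hPp.trans hzp)⟩
  have ht : t.asIdeal.comap (Ideal.Quotient.mk P) = z.comap (Ideal.Quotient.mk p) := by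
    show ((z.comap _).map _).comap _ = _
    rw [Ideal.comap_map_of_surjective' _ Ideal.Quotient.mk_surjective, Ideal.mk_ker, sup_eq_left.2 (hPp.trans hzp)]
  have hxt : x ≤ t := by
    show x.asIdeal ≤ t.asIdeal
    rw [← Ideal.map_comap_of_surjective _ Ideal.Quotient.mk_surjective x.asIdeal]
    exact Ideal.map_mono hzp
  rcases hxt.eq_or_lt with he | hlt'
  · have hzbot : z = ⊥ := by
      rw [← Ideal.map_comap_of_surjective _ Ideal.Quotient.mk_surjective z, ← ht, ← he]
      exact Ideal.map_quotient_self p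
    rw [hzbot, Ideal.height_bot]
    exact_mod_cast Nat.zero_lt_one
  · refine absurd (show t < y from ?_) (hxy.2 hlt')
    refine lt_of_le_of_ne ?_ fun he => hzq.ne ?_
    · show t.asIdeal ≤ y.asIdeal
      exact Ideal.map_le_iff_le_comap.2 hzq.le
    · rw [← ht, he]

end GrothLib.Ratliff
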