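import Groth.Agent.Lib.Ratliff.Completion
import Groth.Agent.Lib.Ratliff.Core
import Groth.Agent.Lib.Excellent.FlatFibres
import Groth.Agent.Lib.Altitude.Scheme
import Groth.Agent.Lib.Cohen.Structure

/-!
# Local rings essentially of finite type over formally catenary rings
-/

set_option autoImplicit false
set_option linter.style.haveILetI false
universe u

open IsLocalRing TensorProduct

namespace GrothLib.Ratliff

/-- A complete local Noetherian ring is a quotient of a regular ring. -/
theorem exists_regular_surjection (C : Type u) [CommRing C] [IsLocalRing C] [IsNoetherianRing C]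
    [IsAdicComplete (maximalIdeal C) C] :
    ∃ (R0 : Type u) (_ : CommRing R0) (_ : IsRegularRing R0) (f : R0 →+* C), Function.Surjective f := by
  obtain ⟨Λ, _, n, f, hΛ, hf⟩ := GrothLib.Cohen.exists_surjective_mvPowerSeries C (IsNoetherian.noetherian _)
  rcases hΛ with hΛ | ⟨hd, hv, -, p, hp, hm⟩
  · letI := hΛ.toField
    exact ⟨MvPowerSeries (Fin n) Λ, inferInstance, GrothLib.Serre.isRegularRing_of_isRegularLocalRing _, f, hf⟩
  · have hp0 : (p : Λ) ≠ 0 := fun h0 => IsDiscreteValuationRing.not_a_field Λ (by rw [hm, h0, Ideal.span_singleton_zero])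
    haveI := GrothLib.J2.isRegularLocalRing_powerSeries (p : Λ) hp0 hm n
    exact ⟨MvPowerSeries (Fin n) Λ, inferInstance, GrothLib.Serre.isRegularRing_of_isRegularLocalRing _, f, hf⟩

/-- Local rings of algebras of finite type over regular rings are formally catenary. -/
theorem isFormallyCatenary_atPrime_of_regular (R0 T : Type u) [CommRing R0] [IsRegularRing R0] [CommRing T]
    [Algebra R0 T] [Algebra.FiniteType R0 T] [IsNoetherianRing T] (x : Ideal T) [x.IsPrime] :
    EGA4.IsFormallyCatenary (Localization.AtPrime x) := by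
  obtain ⟨n, π, hπ⟩ := Algebra.FiniteType.iff_quotient_mvPolynomial''.1 (inferInstance : Algebra.FiniteType R0 T)
  let P := MvPolynomial (Fin n) R0
  let y := x.comap π.toRingHom
  haveI : IsNoetherianRing (Localization.AtPrime x) :=
    IsLocalization.isNoetherianRing x.primeCompl _ inferInstance
  haveI := (GrothLib.CatCM.isCohenMacaulayRing_of_isRegularRing P).isCohenMacaulayLocalRing_localization y
  let φ : Localization.AtPrime y →+* Localization.AtPrime x := Localization.localRingHom y x π.toRingHom rfl
  letI := φ.toAlgebra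
  exact isFormallyCatenary_of_surjective (B := Localization.AtPrime y)
    ((RingHom.surjectiveOnStalks_of_surjective hπ).localRingHom_surjective _ _ rfl)

/-- A formally catenary equidimensional local ring is formally equidimensional. -/
theorem isFormallyEquidim_of_isFormallyCatenary {A : Type u} [CommRing A] [IsNoetherianRing A] [IsLocalRing A]
    (h : EGA4.IsFormallyCatenary A) (heq : EGA4.IsEquidim A) : EGA4.IsFormallyEquidim A :=
  isFormallyEquidim_iff.2 ⟨heq, fun p _ _ => h p⟩

/-- Formal equidimensionality descends along flat local maps. -/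
theorem isFormallyEquidim_of_flat (D D' : Type u) [CommRing D] [CommRing D'] [IsLocalRing D] [IsLocalRing D']
    [IsNoetherianRing D] [IsNoetherianRing D'] [Algebra D D'] [IsLocalHom (algebraMap D D')] [Module.Flat D D']
    (h : EGA4.IsFormallyEquidim D') : EGA4.IsFormallyEquidim D := by
  obtain ⟨ψ, hψ⟩ := GrothLib.GeomReg.exists_completion_map D D'
  letI : Algebra (EGA4.Cpl D) (EGA4.Cpl D') := ψ.toAlgebra
  haveI : IsLocalHom (algebraMap (EGA4.Cpl D) (EGA4.Cpl D')) := GrothLib.AdicExtra.isLocalHom_completion ψ hψ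
  haveI : Module.Flat (EGA4.Cpl D) (EGA4.Cpl D') :=
    (GrothLib.AdicExtra.flat_completion_iff ψ hψ).2 (RingHom.flat_algebraMap_iff.2 ‹Module.Flat D D'›)
  haveI : IsNoetherianRing (EGA4.Cpl D) := isUniversallyCatenary_cpl.1
  haveI : IsNoetherianRing (EGA4.Cpl D') := isUniversallyCatenary_cpl.1
  exact (isEquidim_and_isCatenary_of_flat (A := EGA4.Cpl D) (A' := EGA4.Cpl D') h isCatenary_cpl).1

/-- Dimension of a component of a local ring. -/
theorem qdim_localization {T : Type u} [CommRing T] (x : Ideal T) [x.IsPrime]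
    (Q : Ideal (Localization.AtPrime x)) [Q.IsPrime] :
    qdim Q = (x.map (Ideal.Quotient.mk (Q.comap (algebraMap T (Localization.AtPrime x))))).height := by
  set Q0 := Q.comap (algebraMap T (Localization.AtPrime x))
  let φ : T ⧸ Q0 →+* Localization.AtPrime x ⧸ Q := Ideal.quotientMap Q (algebraMap T (Localization.AtPrime x)) le_rfl
  letI := φ.toAlgebra
  haveI : IsLocalization (x.primeCompl.map (Ideal.Quotient.mk Q0)) (Localization.AtPrime x ⧸ Q) := by
    refine IsLocalization.of_surjective (S := Localization.AtPrime x) x.primeCompl (Ideal.Quotient.mk Q0)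
      Ideal.Quotient.mk_surjective (Ideal.Quotient.mk Q) Ideal.Quotient.mk_surjective (RingHom.ext fun r => rfl) ?_
    rw [Ideal.mk_ker, Ideal.mk_ker]
    exact (IsLocalization.map_under x.primeCompl (Localization.AtPrime x) Q).ge
  have hQm : Q ≤ maximalIdeal (Localization.AtPrime x) := le_maximalIdeal Ideal.IsPrime.ne_top'
  haveI : ((maximalIdeal (Localization.AtPrime x)).map (Ideal.Quotient.mk Q)).IsPrime :=
    Ideal.isPrime_map_quotientMk_of_isPrime hQm
  rw [qdim, ← IsLocalization.height_under (x.primeCompl.map (Ideal.Quotient.mk Q0))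
    ((maximalIdeal (Localization.AtPrime x)).map (Ideal.Quotient.mk Q))]
  congr 1
  refine Ideal.comap_injective_of_surjective _ Ideal.Quotient.mk_surjective ?_
  show (((maximalIdeal (Localization.AtPrime x)).map (Ideal.Quotient.mk Q)).comap (Ideal.Quotient.mk Q)).comap
    (algebraMap T (Localization.AtPrime x)) = (x.map (Ideal.Quotient.mk Q0)).comap (Ideal.Quotient.mk Q0)
  rw [Ideal.comap_map_of_surjective' _ Ideal.Quotient.mk_surjective, Ideal.mk_ker, sup_eq_left.2 hQm,
    Ideal.comap_map_of_surjective' _ Ideal.Quotient.mk_surjective, Ideal.mk_ker,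
    show (maximalIdeal (Localization.AtPrime x)).comap (algebraMap T (Localization.AtPrime x)) = x from
      IsLocalization.AtPrime.comap_maximalIdeal (Localization.AtPrime x) x]
  refine (sup_eq_left.2 ?_).symm
  exact (Ideal.comap_mono hQm).trans (IsLocalization.AtPrime.comap_maximalIdeal (Localization.AtPrime x) x).le

/-- A local localisation is the localisation at the contraction of the maximal ideal. -/
theorem isLocalization_atPrime_of_image {T S D : Type u} [CommRing T] [CommRing S] [CommRing D] [IsLocalRing D]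
    [Algebra T D] [Algebra S D] (M : Submonoid S) [IsLocalization M D] (hinj : Function.Injective (algebraMap T D))
    (h : ∀ s : S, ∃ r : T, algebraMap T D r = algebraMap S D s) :
    IsLocalization.AtPrime D ((maximalIdeal D).comap (algebraMap T D)) := by
  refine ⟨⟨fun y => IsLocalRing.notMem_maximalIdeal.1 y.2, fun d => ?_, fun {a b} hab => ⟨1, by rw [hinj hab]⟩⟩⟩
  obtain ⟨⟨a, b⟩, hab⟩ := IsLocalization.surj M d
  obtain ⟨ra, hra⟩ := h a
  obtain ⟨rb, hrb⟩ := h (b : S)
  refine ⟨⟨ra, ⟨rb, fun hmem => ?_⟩⟩, ?_⟩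
  · have h2 : algebraMap T D rb ∈ maximalIdeal D := hmem
    rw [hrb] at h2
    exact IsLocalRing.notMem_maximalIdeal.2 (IsLocalization.map_units D b) h2
  · show d * algebraMap T D rb = algebraMap T D ra
    rw [hra, hrb]
    exact hab

/-- Equidimensionality of a local ring of a quotient. -/
theorem isEquidim_atPrime_quotient {T : Type u} [CommRing T] [IsNoetherianRing T] (J w : Ideal T) [w.IsPrime]
    (hJw : J ≤ w) (x : Ideal (T ⧸ J)) [x.IsPrime] (hx : x = w.map (Ideal.Quotient.mk J))
    (h : ∀ Q1 ∈ J.minimalPrimes, ∀ Q2 ∈ J.minimalPrimes, Q1 ≤ w → Q2 ≤ w →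
      (w.map (Ideal.Quotient.mk Q1)).height = (w.map (Ideal.Quotient.mk Q2)).height) :
    EGA4.IsEquidim (Localization.AtPrime x) := by
  subst hx
  haveI : IsNoetherianRing (Localization.AtPrime (w.map (Ideal.Quotient.mk J))) :=
    IsLocalization.isNoetherianRing (w.map (Ideal.Quotient.mk J)).primeCompl _ inferInstance
  set x := w.map (Ideal.Quotient.mk J) with hx
  have key : ∀ Q ∈ minimalPrimes (Localization.AtPrime x), ∃ Q1 ∈ J.minimalPrimes, Q1 ≤ w ∧
      qdim Q = (w.map (Ideal.Quotient.mk Q1)).height := by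
    intro Q hQ
    haveI := hQ.1.1
    let Q0 := Q.comap (algebraMap (T ⧸ J) (Localization.AtPrime x))
    have hQ0 : Q0 ∈ minimalPrimes (T ⧸ J) := by
      rw [← Ideal.height_eq_zero_iff]
      show (Q.under (T ⧸ J)).height = 0
      rw [IsLocalization.height_under x.primeCompl Q, Ideal.height_eq_zero_iff]
      exact hQ
    let Q1 := Q0.comap (Ideal.Quotient.mk J)
    have hQ1 : Q1 ∈ J.minimalPrimes := by
      rw [Ideal.minimalPrimes_eq_comap]
      exact ⟨Q0, hQ0, rfl⟩
    have hQ0x : Q0 ≤ x :=
      (Ideal.comap_mono (le_maximalIdeal Ideal.IsPrime.ne_top')).trans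
        (IsLocalization.AtPrime.comap_maximalIdeal (Localization.AtPrime x) x).le
    have hQ1w : Q1 ≤ w := by
      refine (Ideal.comap_mono hQ0x).trans ?_
      rw [hx, Ideal.comap_map_of_surjective' _ Ideal.Quotient.mk_surjective, Ideal.mk_ker, sup_eq_left.2 hJw]
    refine ⟨Q1, hQ1, hQ1w, ?_⟩
    rw [qdim_localization x Q, ← height_quot_quot J Q1 w hQ1.1.2,
      Ideal.map_comap_of_surjective _ Ideal.Quotient.mk_surjective]
  rw [isEquidim_iff]
  intro Q hQ
  obtain ⟨Q2, hQ2, hQ2d⟩ := exists_minimal_qdim (R := Localization.AtPrime x) (I := ⊥) bot_ne_top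
  rw [← hQ2d]
  obtain ⟨Q1, a1, b1, e1⟩ := key Q hQ
  obtain ⟨Q1', a2, b2, e2⟩ := key Q2 hQ2
  rw [e1, e2]
  exact h Q1 a1 Q1' a2 b1 b2

variable {A A' : Type u} [CommRing A] [IsDomain A] [IsNoetherianRing A] [CommRing A'] [IsLocalRing A']
  [Algebra A A'] [Module.FaithfullyFlat A A'] {n : ℕ}

attribute [local instance] MvPolynomial.algebraMvPolynomial

/-- The local rings of a polynomial domain over a ring with a good extension. -/
theorem isFormallyEquidim_atPrime [IsNoetherianRing A'] [IsAdicComplete (maximalIdeal A') A']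
    (heq : EGA4.IsEquidim A') (P : Ideal (MvPolynomial (Fin n) A)) [P.IsPrime] (hP : P.comap MvPolynomial.C = ⊥)
    (z : Ideal (MvPolynomial (Fin n) A ⧸ P)) [z.IsPrime] :
    EGA4.IsFormallyEquidim (Localization.AtPrime z) := by
  haveI hff := faithfullyFlat_mvPolynomial (A := A) (A' := A') (n := n)
  have hUC := GrothLib.GRingComplete.isUniversallyCatenary_of_isAdicComplete A'
  let R := MvPolynomial (Fin n) A
  let R' := MvPolynomial (Fin n) A'
  let J := P.map (algebraMap R R')
  -- a prime upstairs
  obtain ⟨w, hw⟩ := PrimeSpectrum.comap_surjective_of_faithfullyFlat (B := R')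
    (⟨z.comap (Ideal.Quotient.mk P), inferInstance⟩ : PrimeSpectrum R)
  have hwz : w.asIdeal.comap (algebraMap R R') = z.comap (Ideal.Quotient.mk P) := congrArg PrimeSpectrum.asIdeal hw
  have hJw : J ≤ w.asIdeal := Ideal.map_le_iff_le_comap.2 (hwz ▸ fun r hr => by
    show Ideal.Quotient.mk P r ∈ z
    rw [Ideal.Quotient.eq_zero_iff_mem.2 hr]
    exact zero_mem _)
  let x := w.asIdeal.map (Ideal.Quotient.mk J)
  haveI : x.IsPrime := Ideal.isPrime_map_quotientMk_of_isPrime hJw
  have hxz : x.comap (algebraMap (R ⧸ P) (R' ⧸ J)) = z := by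
    refine Ideal.comap_injective_of_surjective _ Ideal.Quotient.mk_surjective ?_
    show (x.comap (Ideal.Quotient.mk J)).comap (algebraMap R R') = z.comap (Ideal.Quotient.mk P)
    rw [Ideal.comap_map_of_surjective' _ Ideal.Quotient.mk_surjective, Ideal.mk_ker, sup_eq_left.2 hJw, hwz]
  haveI : x.LiesOver z := ⟨hxz.symm⟩
  haveI : Module.Flat (R ⧸ P) (R' ⧸ J) :=
    Module.Flat.of_linearEquiv (Algebra.TensorProduct.quotIdealMapEquivQuotTensor R' P).toLinearEquiv
  haveI : IsNoetherianRing (Localization.AtPrime z) := IsLocalization.isNoetherianRing z.primeCompl _ inferInstance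
  haveI : IsNoetherianRing (Localization.AtPrime x) := IsLocalization.isNoetherianRing x.primeCompl _ inferInstance
  letI := Localization.AtPrime.algebraOfLiesOver z x
  haveI : Module.Flat (Localization.AtPrime z) (Localization.AtPrime x) := GrothLib.Excellent.flat_localization x z
  haveI : IsLocalHom (algebraMap (Localization.AtPrime z) (Localization.AtPrime x)) :=
    Localization.isLocalHom_localRingHom z x (algebraMap (R ⧸ P) (R' ⧸ J)) hxz.symm
  refine isFormallyEquidim_of_flat (Localization.AtPrime z) (Localization.AtPrime x) ?_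
  -- upstairs it is formally catenary and equidimensional
  obtain ⟨R0, _, _, f, hf⟩ := exists_regular_surjection A'
  refine isFormallyEquidim_of_isFormallyCatenary ?_ ?_
  · letI : Algebra R0 A' := f.toAlgebra
    haveI : Algebra.FiniteType R0 A' := Algebra.FiniteType.of_surjective (Algebra.ofId R0 A') hf
    haveI : Algebra.FiniteType R0 (R' ⧸ J) :=
      Algebra.FiniteType.trans (R := R0) (S := A') inferInstance inferInstance
    exact isFormallyCatenary_atPrime_of_regular R0 (R' ⧸ J) x
  · refine isEquidim_atPrime_quotient J w.asIdeal hJw x rfl fun Q1 h1 Q2 h2 h1w h2w => ?_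
    have e1 := height_quot_unique hUC heq P hP w.asIdeal Q1 h1 h1w
    rw [← height_quot_unique hUC heq P hP w.asIdeal Q2 h2 h2w] at e1
    refine ENat.add_right_injective_of_ne_top (Ideal.height_ne_top (I := P) Ideal.IsPrime.ne_top')
      (ENat.add_left_injective_of_ne_top ?_ e1)
    haveI : (w.asIdeal.comap (MvPolynomial.C (σ := Fin n) (R := A'))).IsPrime := Ideal.IsPrime.comap _
    haveI : ((maximalIdeal A').map (Ideal.Quotient.mk (w.asIdeal.comap (MvPolynomial.C (σ := Fin n) (R := A'))))).IsPrime :=
      Ideal.isPrime_map_quotientMk_of_isPrime (le_maximalIdeal Ideal.IsPrime.ne_top')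
    exact Ideal.height_ne_top Ideal.IsPrime.ne_top'

/-- A local domain generated by a polynomial ring over a good base. -/
theorem isFormallyEquidim_of_hom [IsNoetherianRing A'] [IsAdicComplete (maximalIdeal A') A']
    (heq : EGA4.IsEquidim A') {S D : Type u} [CommRing S] [CommRing D] [IsDomain D] [IsLocalRing D] [IsNoetherianRing D]
    [Algebra S D] (M : Submonoid S) [IsLocalization M D] (g : MvPolynomial (Fin n) A →+* D)
    (hgC : Function.Injective (g.comp MvPolynomial.C)) (hgS : ∀ s : S, ∃ r, g r = algebraMap S D s)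
    (P : Ideal (MvPolynomial (Fin n) A)) (hPg : RingHom.ker g = P) : EGA4.IsFormallyEquidim D := by
  haveI : P.IsPrime := hPg ▸ RingHom.ker_isPrime g
  have hP : P.comap MvPolynomial.C = ⊥ := by
    rw [← hPg, RingHom.comap_ker]
    exact (RingHom.injective_iff_ker_eq_bot _).1 hgC
  letI : Algebra (MvPolynomial (Fin n) A ⧸ P) D :=
    (Ideal.Quotient.lift P g fun r hr => by rw [← hPg] at hr; exact hr).toAlgebra
  have hinj : Function.Injective (algebraMap (MvPolynomial (Fin n) A ⧸ P) D) :=
    RingHom.lift_injective_of_ker_le_ideal P (fun r hr => by rw [← hPg] at hr; exact hr) hPg.le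
  haveI := isLocalization_atPrime_of_image (T := MvPolynomial (Fin n) A ⧸ P) (D := D) M hinj fun s => by
    obtain ⟨r, hr⟩ := hgS s
    exact ⟨Ideal.Quotient.mk P r, hr⟩
  let z := (maximalIdeal D).comap (algebraMap (MvPolynomial (Fin n) A ⧸ P) D)
  haveI : IsLocalization.AtPrime D z := ‹_›
  let e : Localization.AtPrime z ≃ₐ[MvPolynomial (Fin n) A ⧸ P] D := IsLocalization.algEquiv z.primeCompl _ _
  haveI : IsNoetherianRing (Localization.AtPrime z) := IsLocalization.isNoetherianRing z.primeCompl _ inferInstance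
  obtain ⟨e'⟩ := exists_completion_congr (R := Localization.AtPrime z) (R' := D) e.toRingEquiv
  exact isEquidim_congr e' (isFormallyEquidim_atPrime heq P hP z)

/-- Local rings essentially of finite type over a formally catenary ring. -/
theorem isFormallyEquidim_of_essFiniteType (A : Type u) [CommRing A] [IsNoetherianRing A] [IsLocalRing A]
    (hA : EGA4.IsFormallyCatenary A) (D : Type u) [CommRing D] [IsDomain D] [IsNoetherianRing D] [IsLocalRing D]
    [Algebra A D] [Algebra.EssFiniteType A D] : EGA4.IsFormallyEquidim D := by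
  classical
  let q := RingHom.ker (algebraMap A D)
  haveI : q.IsPrime := RingHom.ker_isPrime _
  haveI : IsLocalRing (A ⧸ q) := IsLocalRing.of_surjective' (Ideal.Quotient.mk q) Ideal.Quotient.mk_surjective
  let A0 := A ⧸ q
  letI : Algebra A0 D := (RingHom.kerLift (algebraMap A D)).toAlgebra
  haveI : IsScalarTower A A0 D := IsScalarTower.of_algebraMap_eq fun _ => rfl
  haveI : Algebra.EssFiniteType A0 D := Algebra.EssFiniteType.of_comp A A0 D
  let S := Algebra.EssFiniteType.subalgebra A0 D
  obtain ⟨k, π, hπ⟩ := Algebra.FiniteType.iff_quotient_mvPolynomial''.1 (inferInstance : Algebra.FiniteType A0 S)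
  haveI : Module.FaithfullyFlat A0 (EGA4.Cpl A0) := GrothLib.Excellent.faithfullyFlat_cpl A0
  haveI : IsNoetherianRing (AdicCompletion (maximalIdeal A0) A0) := (isUniversallyCatenary_cpl (A := A0)).1
  refine isFormallyEquidim_of_hom (A' := AdicCompletion (maximalIdeal A0) A0) (hA q)
    (Algebra.EssFiniteType.submonoid A0 D) (S.val.comp π).toRingHom ?_ (fun s => ?_) _ rfl
  · intro a b h
    have h' : (S.val.comp π) (algebraMap A0 (MvPolynomial (Fin k) A0) a) =
        (S.val.comp π) (algebraMap A0 (MvPolynomial (Fin k) A0) b) := h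
    rw [AlgHom.commutes, AlgHom.commutes] at h'
    exact RingHom.kerLift_injective _ h'
  · obtain ⟨r, rfl⟩ := hπ s
    exact ⟨r, rfl⟩

end GrothLib.Ratliff
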