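import Groth.Agent.Lib.Ratliff.Completion
import Groth.Agent.Lib.Excellent.FlatFibresLocal
import Groth.Agent.Lib.Altitude.Basic
import Groth.Agent.Lib.Dim.Ring
import Groth.Agent.Lib.RegLoc.Normal
import Groth.Agent.S2654

/-!
# Excellent local rings are formally catenary
-/

set_option autoImplicit false
set_option linter.style.haveILetI false
universe u

open IsLocalRing TensorProduct

namespace GrothLib.Ratliff

/-- The completion map of a local G-ring is regular. -/
theorem isRegularHom_cpl_of_isGRing (B : Type u) [CommRing B] [IsLocalRing B] (h : CAlg.IsGRing B) :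
    CAlg.IsRegularHom B (EGA4.Cpl B) := by
  haveI := h.1
  haveI : IsNoetherianRing (Localization.AtPrime (maximalIdeal B)) :=
    IsLocalization.isNoetherianRing (maximalIdeal B).primeCompl _ inferInstance
  let e : B ≃ₐ[B] Localization.AtPrime (maximalIdeal B) :=
    IsLocalization.atUnits B (maximalIdeal B).primeCompl fun x hx =>
      (IsUnit.mem_submonoid_iff x).2 (IsLocalRing.notMem_maximalIdeal.1 hx)
  exact GrothLib.Excellent.isRegularHom_completion_congr e.toRingEquiv.symm (h.2 (maximalIdeal B))

/-- Minimal primes below a prime at which the ring is locally a domain. -/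
theorem eq_of_isDomain_localization {R : Type u} [CommRing R] {M Q1 Q2 : Ideal R} [M.IsPrime]
    [IsDomain (Localization.AtPrime M)] (h1 : Q1 ∈ minimalPrimes R) (h2 : Q2 ∈ minimalPrimes R)
    (h1M : Q1 ≤ M) (h2M : Q2 ≤ M) : Q1 = Q2 := by
  have key : ∀ Q ∈ minimalPrimes R, Q ≤ M →
      Q = (⊥ : Ideal (Localization.AtPrime M)).comap (algebraMap R (Localization.AtPrime M)) := by
    intro Q hQ hQM
    haveI := hQ.1.1
    have hdisj : Disjoint (M.primeCompl : Set R) Q := Set.disjoint_left.mpr fun x hx hxQ => hx (hQM hxQ)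
    have hle : (⊥ : Ideal (Localization.AtPrime M)).comap (algebraMap R (Localization.AtPrime M)) ≤ Q := by
      conv_rhs => rw [← IsLocalization.comap_map_of_isPrime_disjoint M.primeCompl (Localization.AtPrime M) ‹Q.IsPrime› hdisj]
      exact Ideal.comap_mono bot_le
    haveI : ((⊥ : Ideal (Localization.AtPrime M)).comap (algebraMap R (Localization.AtPrime M))).IsPrime :=
      Ideal.IsPrime.comap _
    exact le_antisymm (hQ.2 ⟨inferInstance, bot_le⟩ hle) hle
  rw [key Q1 h1 h1M, key Q2 h2 h2M]

/-- Equidimensionality from a locally integral finite extension of full height. -/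
theorem isEquidim_of_extension (C C' : Type u) [CommRing C] [CommRing C'] [IsNoetherianRing C'] [Algebra C C']
    [Algebra.IsIntegral C C'] (hinj : Function.Injective (algebraMap C C'))
    (hdom : ∀ (M : Ideal C') [M.IsMaximal], IsDomain (Localization.AtPrime M))
    (hdim : ∀ (M : Ideal C') [M.IsMaximal], ringKrullDim C ≤ (M.height : WithBot ℕ∞)) : EGA4.IsEquidim C := by
  intro P hP
  haveI := hP.1.1
  obtain ⟨Q', -, hQ', hQ'P⟩ := Ideal.exists_ideal_over_prime_of_isIntegral (R := C) (S := C') P ⊥
    (by rw [← RingHom.ker_eq_comap_bot, (RingHom.injective_iff_ker_eq_bot _).1 hinj]; exact bot_le)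
  obtain ⟨Q, hQ, hQQ'⟩ := Ideal.exists_minimalPrimes_le (I := (⊥ : Ideal C')) (J := Q') bot_le
  haveI := hQ.1.1
  have hQP : Q.comap (algebraMap C C') = P := by
    have h1 : Q.comap (algebraMap C C') ≤ P := (Ideal.comap_mono hQQ').trans hQ'P.le
    exact le_antisymm h1 (hP.2 ⟨Ideal.IsPrime.comap _, bot_le⟩ h1)
  refine le_antisymm (ringKrullDim_le_of_surjective _ Ideal.Quotient.mk_surjective) ?_
  haveI : Q.LiesOver P := ⟨hQP.symm⟩
  rw [← GrothLib.Dim.ringKrullDim_eq_of_isIntegral (R := C ⧸ P) (S := C' ⧸ Q) (FaithfulSMul.algebraMap_injective (C ⧸ P) (C' ⧸ Q))]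
  obtain ⟨M, hM, hQM⟩ := Q.exists_le_maximal Ideal.IsPrime.ne_top'
  refine (hdim M).trans ?_
  obtain ⟨Q1, hQ1, hQ1M, hh⟩ := exists_minimal_height (⊥ : Ideal C') M bot_le
  haveI := hdom M
  obtain rfl := eq_of_isDomain_localization hQ1 hQ hQ1M hQM
  have hMh : M.height = (M.map (Ideal.Quotient.mk Q1)).height := by
    rw [← hh, ← (RingEquiv.quotientBot C').symm.height_map M]
    rfl
  rw [hMh]
  haveI : (M.map (Ideal.Quotient.mk Q1)).IsPrime := Ideal.isPrime_map_quotientMk_of_isPrime hQ1M
  exact Ideal.height_le_ringKrullDim_of_isPrime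

set_option maxHeartbeats 800000 in
/-- An excellent local domain has equidimensional completion. -/
theorem isFormallyEquidim_of_excellent_domain (B : Type u) [CommRing B] [IsDomain B] [IsLocalRing B]
    (hB : EGA4.IsExcellent B) (hfin : Module.Finite B (integralClosure B (FractionRing B))) :
    EGA4.IsFormallyEquidim B := by
  haveI := hB.1
  let N := integralClosure B (FractionRing B)
  haveI : Module.Finite B N := hfin
  haveI : IsNoetherianRing N := IsNoetherianRing.of_finite B N
  haveI : FaithfulSMul B N := (faithfulSMul_iff_algebraMap_injective _ _).2 fun x y h =>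
    IsFractionRing.injective B (FractionRing B) (congrArg Subtype.val h :)
  haveI : IsIntegrallyClosed N := integralClosure.isIntegrallyClosedOfFiniteExtension (FractionRing B)
  let C := EGA4.Cpl B
  haveI : Module.FaithfullyFlat B C := GrothLib.Excellent.faithfullyFlat_cpl B
  haveI : IsNoetherianRing C := isUniversallyCatenary_cpl.1
  let C' := N ⊗[B] C
  letI : Algebra C C' := Algebra.TensorProduct.rightAlgebra
  haveI : Module.Finite C C' := Module.Finite.equiv ({ Algebra.TensorProduct.comm B C N with
      commutes' := fun c => rfl } : (C ⊗[B] N) ≃ₐ[C] C').toLinearEquiv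
  haveI : IsNoetherianRing C' := IsNoetherianRing.of_finite C C'
  haveI : Algebra.IsIntegral C C' := Algebra.IsIntegral.of_finite C C'
  have hinj : Function.Injective (algebraMap C C') := by
    have h1 := Module.Flat.rTensor_preserves_injective_linearMap (M := C) (Algebra.linearMap B N)
      (FaithfulSMul.algebraMap_injective B N)
    intro x y hxy
    refine (TensorProduct.lid B C).symm.injective (h1 ?_)
    simpa [Algebra.TensorProduct.rightAlgebra, RingHom.algebraMap_toAlgebra] using hxy
  have hnor : ∀ (M : Ideal C') [M.IsPrime], IsDomain (Localization.AtPrime M) := by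
    intro M _
    have hreg : CAlg.IsRegularHom N C' :=
      GrothLib.GeomReg.isRegularHom_baseChange (isRegularHom_cpl_of_isGRing B hB.2.2.1)
    haveI : IsDomain (Localization.AtPrime (M.comap (algebraMap N C'))) :=
      IsLocalization.isDomain_of_le_nonZeroDivisors (Localization.AtPrime (M.comap (algebraMap N C')))
        (M.comap (algebraMap N C')).primeCompl_le_nonZeroDivisors
    haveI : IsIntegrallyClosed (Localization.AtPrime (M.comap (algebraMap N C'))) :=
      isIntegrallyClosed_of_isLocalization _ (M.comap (algebraMap N C')).primeCompl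
        (M.comap (algebraMap N C')).primeCompl_le_nonZeroDivisors
    refine (GrothLib.Excellent.normal_of_flat_local N C' (fun q _ => ?_) M).1
    haveI := GrothLib.Excellent.isRegularLocalRing_fibLocRing (A := N) q
      (GrothLib.Excellent.isRegularRing_of_isGeometricallyRegular (hreg.2 _).2)
    exact ⟨GrothLib.CMFree.isDomain_of_isRegularLocalRing _, GrothLib.RegLoc.isIntegrallyClosed_of_isRegularLocalRing _⟩
  show EGA4.IsEquidim C
  refine isEquidim_of_extension C C' hinj (fun M _ => hnor M) fun M hM => ?_
  rw [show ringKrullDim C = ringKrullDim B from ringKrullDim_cpl]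
  let n := M.comap (algebraMap N C')
  haveI : M.LiesOver n := ⟨rfl⟩
  have hnm : n.comap (algebraMap B N) = maximalIdeal B := by
    have h1 : (M.comap (algebraMap C C')) = maximalIdeal C :=
      eq_maximalIdeal (Ideal.IsMaximal.under C M)
    have h2 : n.comap (algebraMap B N) = (M.comap (algebraMap C C')).comap (algebraMap B C) := by
      rw [Ideal.comap_comap, Ideal.comap_comap]
      congr 1
      refine RingHom.ext fun b => ?_
      show algebraMap B N b ⊗ₜ[B] (1 : C) = (1 : N) ⊗ₜ[B] algebraMap B C b
      rw [Algebra.algebraMap_eq_smul_one, TensorProduct.smul_tmul, ← Algebra.algebraMap_eq_smul_one]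
    rw [h2, h1]
    exact comap_maximalIdeal'
  haveI : n.IsMaximal := Ideal.isMaximal_of_isIntegral_of_isMaximal_comap (R := B) n (hnm ▸ maximalIdeal.isMaximal B)
  have hn : ringKrullDim B ≤ (n.height : WithBot ℕ∞) := by
    haveI : n.LiesOver (maximalIdeal B) := ⟨hnm.symm⟩
    obtain ⟨t, s, ht, hs, -, heq⟩ := GrothLib.Altitude.height_add_trdeg B N (maximalIdeal B) n
    haveI : IsLocalization (⊥ : Submonoid B) B := IsLocalization.self bot_le
    have h := heq ⊥ B bot_le hB.2.1
    have ht0 : t = 0 := by
      haveI : Algebra.IsAlgebraic B N := Algebra.IsIntegral.isAlgebraic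
      have h0 : Algebra.trdeg B N = 0 := trdeg_eq_zero
      rw [ht] at h0
      exact_mod_cast h0
    have hs0 : s = 0 := by
      haveI : Algebra.IsAlgebraic (B ⧸ maximalIdeal B) (N ⧸ n) := Algebra.IsIntegral.isAlgebraic
      have h0 : Algebra.trdeg (B ⧸ maximalIdeal B) (N ⧸ n) = 0 := trdeg_eq_zero
      rw [hs] at h0
      exact_mod_cast h0
    rw [ht0, hs0, Nat.cast_zero, add_zero, add_zero] at h
    rw [h, maximalIdeal_height_eq_ringKrullDim]
  refine hn.trans (WithBot.coe_le_coe.2 ?_)
  rw [Ideal.height_eq_height_add_of_liesOver_of_hasGoingDown n M]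
  exact le_self_add

/-- An excellent local ring is formally catenary. -/
theorem isFormallyCatenary_of_isExcellent (A : Type u) [CommRing A] [IsLocalRing A] (hA : EGA4.IsExcellent A) :
    EGA4.IsFormallyCatenary A := by
  intro p _
  haveI := hA.1
  haveI : IsLocalRing (A ⧸ p) := IsLocalRing.of_surjective' (Ideal.Quotient.mk p) Ideal.Quotient.mk_surjective
  have hN := (Groth.Agent.S2654.result A ⟨hA.1, hA.2.2⟩).2 p
  exact isFormallyEquidim_of_excellent_domain (A ⧸ p) (GrothLib.GeomReg.isExcellent_of_finite A (A ⧸ p) hA)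
    (hN (FractionRing (A ⧸ p)) inferInstance)

end GrothLib.Ratliff
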