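import Groth.Agent.Lib.Ratliff.Basic
import Groth.Agent.Lib.CatCM.Basic
import Groth.Prelude.Def_EGA4b

/-!
# Equidimensional catenary local rings and flat local maps
-/

set_option autoImplicit false
set_option linter.style.haveILetI false
universe u

open IsLocalRing

namespace GrothLib.Ratliff

variable {R : Type u} [CommRing R] [IsLocalRing R]

/-- The dimension of the quotient by an ideal, as a height. -/
noncomputable def qdim (I : Ideal R) : ℕ∞ := ((maximalIdeal R).map (Ideal.Quotient.mk I)).height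

theorem ringKrullDim_quotient_eq {I : Ideal R} (hI : I ≠ ⊤) : ringKrullDim (R ⧸ I) = (qdim I : WithBot ℕ∞) := by
  haveI : Nontrivial (R ⧸ I) := Ideal.Quotient.nontrivial_iff.2 hI
  haveI : IsLocalRing (R ⧸ I) := IsLocalRing.of_surjective' (Ideal.Quotient.mk I) Ideal.Quotient.mk_surjective
  haveI : ((maximalIdeal R).map (Ideal.Quotient.mk I)).IsMaximal :=
    Ideal.IsMaximal.map_of_surjective_of_ker_le Ideal.Quotient.mk_surjective
      (by rw [Ideal.mk_ker]; exact le_maximalIdeal hI)
  rw [qdim, eq_maximalIdeal ‹((maximalIdeal R).map (Ideal.Quotient.mk I)).IsMaximal›,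
    maximalIdeal_height_eq_ringKrullDim]

theorem qdim_bot : qdim (⊥ : Ideal R) = (maximalIdeal R).height := by
  rw [qdim, ← (RingEquiv.quotientBot R).symm.height_map (maximalIdeal R)]
  rfl

theorem ringKrullDim_eq : ringKrullDim R = (qdim (⊥ : Ideal R) : WithBot ℕ∞) := by
  rw [qdim_bot, maximalIdeal_height_eq_ringKrullDim]

theorem qdim_ne_top [IsNoetherianRing R] {I : Ideal R} (hI : I ≠ ⊤) : qdim I ≠ ⊤ := by
  haveI : ((maximalIdeal R).map (Ideal.Quotient.mk I)).IsPrime :=
    Ideal.isPrime_map_quotientMk_of_isPrime (le_maximalIdeal hI)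
  exact Ideal.height_ne_top Ideal.IsPrime.ne_top'

theorem qdim_mono {I J : Ideal R} (h : I ≤ J) (hJ : J ≠ ⊤) : qdim J ≤ qdim I :=
  height_quot_mono I J _ h (le_maximalIdeal hJ)

theorem isEquidim_iff : EGA4.IsEquidim R ↔ ∀ Q ∈ minimalPrimes R, qdim Q = qdim (⊥ : Ideal R) := by
  refine forall₂_congr fun Q hQ => ?_
  rw [ringKrullDim_quotient_eq hQ.1.1.ne_top, ringKrullDim_eq, WithBot.coe_inj]

theorem isEquidim_quotient_iff {I : Ideal R} (hI : I ≠ ⊤) :
    EGA4.IsEquidim (R ⧸ I) ↔ ∀ P ∈ I.minimalPrimes, qdim P = qdim I := by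
  haveI : Nontrivial (R ⧸ I) := Ideal.Quotient.nontrivial_iff.2 hI
  haveI : IsLocalRing (R ⧸ I) := IsLocalRing.of_surjective' (Ideal.Quotient.mk I) Ideal.Quotient.mk_surjective
  haveI : ((maximalIdeal R).map (Ideal.Quotient.mk I)).IsMaximal :=
    Ideal.IsMaximal.map_of_surjective_of_ker_le Ideal.Quotient.mk_surjective
      (by rw [Ideal.mk_ker]; exact le_maximalIdeal hI)
  have hm : (maximalIdeal R).map (Ideal.Quotient.mk I) = maximalIdeal (R ⧸ I) :=
    eq_maximalIdeal ‹((maximalIdeal R).map (Ideal.Quotient.mk I)).IsMaximal›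
  have hbot : qdim (⊥ : Ideal (R ⧸ I)) = qdim I := by
    rw [qdim_bot, ← hm]
    rfl
  have hq : ∀ (P : Ideal R), I ≤ P → qdim (P.map (Ideal.Quotient.mk I)) = qdim P := fun P hP => by
    rw [qdim, ← hm, height_quot_quot I P _ hP]
    rfl
  rw [isEquidim_iff, hbot]
  constructor
  · intro h P hP
    rw [← hq P hP.1.2]
    refine h _ ?_
    rw [Ideal.minimalPrimes_eq_comap, Set.mem_image] at hP
    obtain ⟨Q, hQ, rfl⟩ := hP
    rw [Ideal.map_comap_of_surjective _ Ideal.Quotient.mk_surjective]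
    exact hQ
  · intro h Q hQ
    have hP : Q.comap (Ideal.Quotient.mk I) ∈ I.minimalPrimes := by
      rw [Ideal.minimalPrimes_eq_comap]
      exact ⟨Q, hQ, rfl⟩
    have := hq _ hP.1.2
    rw [Ideal.map_comap_of_surjective _ Ideal.Quotient.mk_surjective] at this
    rw [this, h _ hP]

theorem exists_minimal_qdim [IsNoetherianRing R] {I : Ideal R} (hI : I ≠ ⊤) :
    ∃ Q ∈ I.minimalPrimes, qdim Q = qdim I := by
  obtain ⟨Q, hQ, -, h⟩ := exists_minimal_height I (maximalIdeal R) (le_maximalIdeal hI)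
  exact ⟨Q, hQ, h.symm⟩

/-- Additivity of heights in an equidimensional catenary local ring. -/
theorem height_add_qdim [IsNoetherianRing R] (heq : EGA4.IsEquidim R) (hcat : CAlg.IsCatenary R) (x : Ideal R)
    [x.IsPrime] : x.height + qdim x = qdim (⊥ : Ideal R) := by
  obtain ⟨Q, hQ, hQx, h⟩ := exists_minimal_height (⊥ : Ideal R) x bot_le
  haveI := hQ.1.1
  have hh : x.height = (x.map (Ideal.Quotient.mk Q)).height := by
    rw [← h, ← (RingEquiv.quotientBot R).symm.height_map x]
    rfl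
  rw [hh, ← isEquidim_iff.1 heq Q hQ]
  exact (height_quot_add Q x (maximalIdeal R) hQx (le_maximalIdeal Ideal.IsPrime.ne_top')
    (GrothLib.CatBasics.isCatenary_of_surjective _ Ideal.Quotient.mk_surjective hcat)).symm

section Flat

variable {A A' : Type u} [CommRing A] [CommRing A'] [IsLocalRing A] [IsLocalRing A'] [IsNoetherianRing A]
  [IsNoetherianRing A'] [Algebra A A'] [IsLocalHom (algebraMap A A')] [Module.Flat A A']

omit [IsNoetherianRing A] [IsNoetherianRing A'] [Module.Flat A A'] in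
theorem map_ne_top {I : Ideal A} (hI : I ≠ ⊤) : I.map (algebraMap A A') ≠ ⊤ :=
  ne_top_of_le_ne_top (maximalIdeal.isMaximal A').ne_top
    ((Ideal.map_mono (le_maximalIdeal hI)).trans (((local_hom_TFAE _).out 0 2 rfl rfl).mp ‹_›))

omit [IsNoetherianRing A] [IsNoetherianRing A'] [Module.Flat A A'] in
theorem comap_maximalIdeal' : (maximalIdeal A').comap (algebraMap A A') = maximalIdeal A :=
  ((local_hom_TFAE _).out 0 4 rfl rfl).mp ‹_›

/-- The dimension formula for quotients along a flat local map. -/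
theorem qdim_map {I : Ideal A} (hI : I ≠ ⊤) :
    qdim (I.map (algebraMap A A')) = qdim I + qdim ((maximalIdeal A).map (algebraMap A A')) :=
  height_quot_eq_add I (maximalIdeal A) (maximalIdeal A') comap_maximalIdeal' (le_maximalIdeal hI)

/-- Dimensions of the components of the extension of a prime. -/
theorem qdim_component (heq : EGA4.IsEquidim A') (hcat : CAlg.IsCatenary A') (p : Ideal A) [p.IsPrime] :
    p.height + qdim p = qdim (⊥ : Ideal A) ∧ ∀ P ∈ (p.map (algebraMap A A')).minimalPrimes,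
      qdim P = qdim p + qdim ((maximalIdeal A).map (algebraMap A A')) := by
  have hp : p ≠ ⊤ := Ideal.IsPrime.ne_top'
  have hht : ∀ P ∈ (p.map (algebraMap A A')).minimalPrimes, P.height = p.height := fun P hP => by
    haveI := hP.1.1
    haveI : P.LiesOver p := ⟨(comap_of_minimalPrimes p hP).symm⟩
    rw [Ideal.height_eq_height_add_of_liesOver_of_hasGoingDown p P, height_quot_eq_zero hP, add_zero]
  have hbot : qdim (⊥ : Ideal A') = qdim (⊥ : Ideal A) + qdim ((maximalIdeal A).map (algebraMap A A')) := by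
    have := qdim_map (A := A) (A' := A') (I := ⊥) bot_ne_top
    rwa [Ideal.map_bot] at this
  obtain ⟨P0, hP0, hP0d⟩ := exists_minimal_qdim (map_ne_top (A' := A') hp)
  have key : ∀ P ∈ (p.map (algebraMap A A')).minimalPrimes, p.height + qdim P = qdim (⊥ : Ideal A') := fun P hP => by
    haveI := hP.1.1
    rw [← hht P hP]
    exact height_add_qdim heq hcat P
  have hd := qdim_map (A' := A') hp
  rw [← hP0d] at hd
  have hδ : qdim ((maximalIdeal A).map (algebraMap A A')) ≠ ⊤ :=
    qdim_ne_top (map_ne_top (A' := A') (maximalIdeal.isMaximal A).ne_top)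
  have hph : p.height ≠ ⊤ := Ideal.height_ne_top hp
  refine ⟨?_, fun P hP => ?_⟩
  · have h1 := key P0 hP0
    rw [hd, hbot, ← add_assoc] at h1
    exact ENat.add_left_injective_of_ne_top hδ h1
  · have h1 := key P hP
    rw [← key P0 hP0, hd] at h1
    exact ENat.add_right_injective_of_ne_top hph h1

/-- Descent of equidimensionality along flat local maps, for quotients. -/
theorem isEquidim_quotient_map_iff (heq : EGA4.IsEquidim A') (hcat : CAlg.IsCatenary A') (a : Ideal A) :
    EGA4.IsEquidim (A' ⧸ a.map (algebraMap A A')) ↔ EGA4.IsEquidim (A ⧸ a) := by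
  by_cases ha : a = ⊤
  · subst ha
    rw [Ideal.map_top]
    refine iff_of_true (fun p hp => ?_) (fun p hp => ?_) <;>
      exact absurd (Subsingleton.elim _ _) hp.1.1.ne_top
  have hδ : qdim ((maximalIdeal A).map (algebraMap A A')) ≠ ⊤ :=
    qdim_ne_top (map_ne_top (A' := A') (maximalIdeal.isMaximal A).ne_top)
  rw [isEquidim_quotient_iff ha, isEquidim_quotient_iff (map_ne_top ha), qdim_map ha]
  constructor
  · intro h p hp
    haveI := hp.1.1
    obtain ⟨P, hP⟩ := Ideal.nonempty_minimalPrimes (map_ne_top (A' := A') hp.1.1.ne_top)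
    have hPp := comap_of_minimalPrimes p hP
    have hPa : P ∈ (a.map (algebraMap A A')).minimalPrimes := by
      refine ⟨⟨hP.1.1, (Ideal.map_mono hp.1.2).trans hP.1.2⟩, fun P' hP' hle => ?_⟩
      haveI := hP'.1
      refine hP.2 ⟨hP'.1, Ideal.map_le_iff_le_comap.2 ?_⟩ hle
      exact hp.2 ⟨Ideal.IsPrime.comap _, Ideal.map_le_iff_le_comap.1 hP'.2⟩ ((Ideal.comap_mono hle).trans hPp.le)
    have h2 := h P hPa
    rw [(qdim_component heq hcat p).2 P hP] at h2
    exact ENat.add_left_injective_of_ne_top hδ h2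
  · intro h P hP
    haveI := hP.1.1
    obtain ⟨p, hp, hple⟩ := Ideal.exists_minimalPrimes_le (Ideal.map_le_iff_le_comap.1 hP.1.2)
    haveI := hp.1.1
    haveI : P.LiesOver (P.under A) := ⟨rfl⟩
    obtain ⟨P1, hP1, _, hP1p⟩ := P.exists_ideal_le_liesOver_of_le (p := p) (q := P.under A) hple
    have hPP1 : P ≤ P1 := hP.2 ⟨‹P1.IsPrime›, (Ideal.map_mono hp.1.2).trans (Ideal.map_le_iff_le_comap.2 hP1p.over.le)⟩ hP1
    obtain rfl := le_antisymm hPP1 hP1
    have hPmin : P ∈ (p.map (algebraMap A A')).minimalPrimes := by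
      refine ⟨⟨inferInstance, Ideal.map_le_iff_le_comap.2 hP1p.over.le⟩, fun P' hP' hle => ?_⟩
      exact hP.2 ⟨hP'.1, (Ideal.map_mono hp.1.2).trans hP'.2⟩ hle
    rw [(qdim_component heq hcat p).2 P hPmin, h p hp]

/-- An equidimensional catenary flat local extension forces the base to be equidimensional and
catenary. -/
theorem isEquidim_and_isCatenary_of_flat (heq : EGA4.IsEquidim A') (hcat : CAlg.IsCatenary A') :
    EGA4.IsEquidim A ∧ CAlg.IsCatenary A := by
  have hadd := fun (p : Ideal A) (_ : p.IsPrime) => (qdim_component (A := A) heq hcat p).1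
  refine ⟨isEquidim_iff.2 fun Q hQ => ?_, GrothLib.CatCM.isCatenary_of_height_covBy fun x y hxy => ?_⟩
  · haveI := hQ.1.1
    rw [← hadd Q hQ.1.1, Ideal.height_eq_zero_iff.2 hQ, zero_add]
  -- pass to `A / x`
  refine le_antisymm ?_ (Order.add_one_le_of_lt
    (Ideal.height_strict_mono_of_isPrime (show x.asIdeal < y.asIdeal from hxy.lt)))
  have hx : x.asIdeal ≠ ⊤ := x.2.ne_top
  haveI : Nontrivial (A ⧸ x.asIdeal) := Ideal.Quotient.nontrivial_iff.2 hx
  haveI : Nontrivial (A' ⧸ x.asIdeal.map (algebraMap A A')) := Ideal.Quotient.nontrivial_iff.2 (map_ne_top hx)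
  haveI : IsLocalRing (A' ⧸ x.asIdeal.map (algebraMap A A')) :=
    IsLocalRing.of_surjective' (Ideal.Quotient.mk _) Ideal.Quotient.mk_surjective
  have heqx : ∀ P ∈ (x.asIdeal.map (algebraMap A A')).minimalPrimes,
      qdim P = qdim x.asIdeal + qdim ((maximalIdeal A).map (algebraMap A A')) :=
    (qdim_component heq hcat x.asIdeal).2
  -- choose a prime upstairs over `y`
  obtain ⟨Q, hQ⟩ := Ideal.nonempty_minimalPrimes (map_ne_top (A' := A') y.2.ne_top)
  haveI := hQ.1.1
  have hQy := comap_of_minimalPrimes y.asIdeal hQ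
  obtain ⟨P, hP, hPQ, hPd⟩ := exists_minimal_height (x.asIdeal.map (algebraMap A A')) Q
    ((Ideal.map_mono hxy.lt.le).trans hQ.1.2)
  haveI := hP.1.1
  have e1 := height_quot_add P Q (maximalIdeal A') hPQ (le_maximalIdeal Ideal.IsPrime.ne_top')
    (GrothLib.CatBasics.isCatenary_of_surjective _ Ideal.Quotient.mk_surjective hcat)
  change qdim P = (Q.map (Ideal.Quotient.mk P)).height + qdim Q at e1
  rw [← hPd, heqx P hP, (qdim_component heq hcat y.asIdeal).2 Q hQ,
    height_quot_minimal x.asIdeal y.asIdeal Q hQy hQ hxy.lt.le, ← add_assoc] at e1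
  have hδ : qdim ((maximalIdeal A).map (algebraMap A A')) ≠ ⊤ :=
    qdim_ne_top (map_ne_top (A' := A') (maximalIdeal.isMaximal A).ne_top)
  have e2 := ENat.add_left_injective_of_ne_top hδ e1
  have hone : (y.asIdeal.map (Ideal.Quotient.mk x.asIdeal)).height ≤ 1 := height_quot_covBy hxy
  have e3 : y.asIdeal.height + qdim y.asIdeal ≤ x.asIdeal.height + 1 + qdim y.asIdeal := by
    rw [hadd y.asIdeal y.2, ← hadd x.asIdeal x.2, e2, ← add_assoc]
    exact add_le_add (add_le_add le_rfl hone) le_rfl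
  exact (ENat.add_le_add_iff_right (qdim_ne_top y.2.ne_top)).1 e3

end Flat

end GrothLib.Ratliff
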