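import Groth.Agent.Lib.Ratliff.Core
import Groth.Agent.Lib.GRingComplete.Excellent
import Groth.Agent.Lib.Excellent.FormalFibres

/-!
# Formally catenary local rings are universally catenary
-/

set_option autoImplicit false
set_option linter.style.haveILetI false
universe u

namespace GrothLib.Ratliff

/-- A Noetherian local domain with formally equidimensional completion has catenary finite type
domains over it. -/
theorem isCatenary_of_finiteType_domain (B D : Type u) [CommRing B] [IsDomain B] [IsLocalRing B] [IsNoetherianRing B]
    (h : EGA4.IsFormallyEquidim B) [CommRing D] [IsDomain D] [Algebra B D] [FaithfulSMul B D]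
    [Algebra.FiniteType B D] : CAlg.IsCatenary D := by
  obtain ⟨n, π, hπ⟩ := Algebra.FiniteType.iff_quotient_mvPolynomial''.1 (inferInstance : Algebra.FiniteType B D)
  let C := AdicCompletion (IsLocalRing.maximalIdeal B) B
  haveI : Module.FaithfullyFlat B C := GrothLib.Excellent.faithfullyFlat_cpl B
  let P : Ideal (MvPolynomial (Fin n) B) := RingHom.ker π.toRingHom
  haveI : P.IsPrime := RingHom.ker_isPrime _
  have hP : P.comap MvPolynomial.C = ⊥ := by
    rw [eq_bot_iff]
    intro b hb
    have h1 : π (algebraMap B (MvPolynomial (Fin n) B) b) = 0 := hb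
    rw [AlgHom.commutes] at h1
    exact (Submodule.mem_bot B).2 (FaithfulSMul.algebraMap_injective B D (h1.trans (map_zero _).symm))
  exact GrothLib.CatBasics.isCatenary_of_surjective
    (RingHom.quotientKerEquivOfSurjective (f := π.toRingHom) hπ).toRingHom (RingEquiv.surjective _)
    (isCatenary_quotient (A' := C) (GrothLib.GRingComplete.isUniversallyCatenary_of_isAdicComplete C) h P hP)

/-- A formally catenary Noetherian local ring is universally catenary. -/
theorem isUniversallyCatenary_of_isFormallyCatenary (A : Type u) [CommRing A] [IsNoetherianRing A] [IsLocalRing A]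
    (hA : EGA4.IsFormallyCatenary A) : CAlg.IsUniversallyCatenary A := by
  refine ⟨inferInstance, fun S _ _ hS => ?_⟩
  refine GrothLib.CatBasics.isCatenary_iff_forall_quotient_minimalPrimes.2 fun P hP => ?_
  haveI : P.IsPrime := hP.1.1
  let q := P.comap (algebraMap A S)
  let B := A ⧸ q
  haveI : IsLocalRing B := IsLocalRing.of_surjective' (Ideal.Quotient.mk q) Ideal.Quotient.mk_surjective
  haveI : Algebra.FiniteType A (S ⧸ P) := Algebra.FiniteType.of_surjective (Ideal.Quotient.mkₐ A P)
    Ideal.Quotient.mk_surjective
  haveI : IsScalarTower A B (S ⧸ P) := IsScalarTower.of_algebraMap_eq fun _ => rfl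
  haveI : Algebra.FiniteType B (S ⧸ P) := Algebra.FiniteType.of_restrictScalars_finiteType A B (S ⧸ P)
  haveI : FaithfulSMul B (S ⧸ P) := (faithfulSMul_iff_algebraMap_injective _ _).2 fun x y hxy =>
    Ideal.quotientMap_injective hxy
  exact isCatenary_of_finiteType_domain B (S ⧸ P) (hA q)

end GrothLib.Ratliff
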