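import Groth.Agent.Lib.Altitude.Chains
import Mathlib.RingTheory.Ideal.KrullsHeightTheorem
import Mathlib.RingTheory.Ideal.GoingDown

/-!
# Heights in quotients
-/

set_option autoImplicit false
set_option linter.style.haveILetI false
universe u

namespace GrothLib.Ratliff

variable {R : Type u} [CommRing R]

/-- The height of a prime in a quotient of a quotient. -/
theorem height_quot_quot (I J x : Ideal R) (h : I ≤ J) :
    ((x.map (Ideal.Quotient.mk I)).map (Ideal.Quotient.mk (J.map (Ideal.Quotient.mk I)))).height =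
      (x.map (Ideal.Quotient.mk J)).height := by
  rw [← (DoubleQuot.quotQuotEquivQuotOfLE h).height_map
    ((x.map (Ideal.Quotient.mk I)).map (Ideal.Quotient.mk (J.map (Ideal.Quotient.mk I))))]
  congr 1
  show ((x.map (Ideal.Quotient.mk I)).map _).map
    ((DoubleQuot.quotQuotEquivQuotOfLE h : (R ⧸ I) ⧸ J.map (Ideal.Quotient.mk I) →+* R ⧸ J)) = _
  rw [Ideal.map_map, Ideal.map_map]
  rfl

theorem height_quot_mono (I J x : Ideal R) [x.IsPrime] (h : I ≤ J) (hx : J ≤ x) :
    (x.map (Ideal.Quotient.mk J)).height ≤ (x.map (Ideal.Quotient.mk I)).height := by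
  haveI : (x.map (Ideal.Quotient.mk J)).IsPrime := Ideal.isPrime_map_quotientMk_of_isPrime hx
  haveI : (x.map (Ideal.Quotient.mk I)).IsPrime := Ideal.isPrime_map_quotientMk_of_isPrime (h.trans hx)
  let f := PrimeSpectrum.comap (Ideal.Quotient.factor h)
  have hf : StrictMono f := RingHom.strictMono_comap_of_surjective (Ideal.Quotient.factor_surjective h)
  have := Order.height_le_height_apply_of_strictMono f hf ⟨x.map (Ideal.Quotient.mk J), inferInstance⟩
  rw [← PrimeSpectrum.height_eq_orderHeight, ← PrimeSpectrum.height_eq_orderHeight] at this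
  refine this.trans (le_of_eq (congrArg Ideal.height ?_))
  show (x.map (Ideal.Quotient.mk J)).comap (Ideal.Quotient.factor h) = _
  have hc : ((x.map (Ideal.Quotient.mk J)).comap (Ideal.Quotient.factor h)).comap (Ideal.Quotient.mk I) = x := by
    rw [Ideal.comap_comap, Ideal.Quotient.factor_comp_mk, Ideal.comap_map_of_surjective' _
      Ideal.Quotient.mk_surjective, Ideal.mk_ker, sup_eq_left.2 hx]
  conv_rhs => rw [← hc]
  exact (Ideal.map_comap_of_surjective _ Ideal.Quotient.mk_surjective _).symm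

/-- The height in a quotient is attained at a minimal prime. -/
theorem exists_minimal_height [IsNoetherianRing R] (I x : Ideal R) [x.IsPrime] (hx : I ≤ x) :
    ∃ Q ∈ I.minimalPrimes, Q ≤ x ∧ (x.map (Ideal.Quotient.mk I)).height = (x.map (Ideal.Quotient.mk Q)).height := by
  haveI : (x.map (Ideal.Quotient.mk I)).IsPrime := Ideal.isPrime_map_quotientMk_of_isPrime hx
  obtain ⟨l, hl, hlen⟩ := (x.map (Ideal.Quotient.mk I)).exists_ltSeries_length_eq_height
  have hI : I ≤ l.head.asIdeal.comap (Ideal.Quotient.mk I) := fun r hr => by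
    rw [Ideal.mem_comap, Ideal.Quotient.eq_zero_iff_mem.2 hr]
    exact zero_mem _
  obtain ⟨Q, hQ, hQh⟩ := Ideal.exists_minimalPrimes_le hI
  haveI : Q.IsPrime := hQ.1.1
  have hIQ : I ≤ Q := hQ.1.2
  have hl' : ∀ i, Q ≤ (l i).asIdeal.comap (Ideal.Quotient.mk I) := fun i =>
    hQh.trans (Ideal.comap_mono (l.monotone (Fin.zero_le i)))
  have hQx : Q ≤ x := by
    refine (hl' (Fin.last _)).trans ?_
    show (l.last.asIdeal).comap _ ≤ x
    rw [hl, Ideal.comap_map_of_surjective' _ Ideal.Quotient.mk_surjective, Ideal.mk_ker, sup_eq_left.2 hx]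
  refine ⟨Q, hQ, hQx, le_antisymm ?_ (height_quot_mono I Q x hIQ hQx)⟩
  haveI : (x.map (Ideal.Quotient.mk Q)).IsPrime := Ideal.isPrime_map_quotientMk_of_isPrime hQx
  let g : Fin (l.length + 1) → PrimeSpectrum (R ⧸ Q) := fun i =>
    ⟨((l i).asIdeal.comap (Ideal.Quotient.mk I)).map (Ideal.Quotient.mk Q),
      Ideal.isPrime_map_quotientMk_of_isPrime (hl' i)⟩
  have hg : ∀ i, (g i).asIdeal.comap (Ideal.Quotient.mk Q) = (l i).asIdeal.comap (Ideal.Quotient.mk I) := fun i => by
    show ((((l i).asIdeal.comap _).map _)).comap _ = _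
    rw [Ideal.comap_map_of_surjective' _ Ideal.Quotient.mk_surjective, Ideal.mk_ker, sup_eq_left.2 (hl' i)]
  have hmono : StrictMono g := fun i j hij => lt_of_le_not_ge
    (Ideal.map_mono (Ideal.comap_mono (l.strictMono hij).le)) fun hji => (l.strictMono hij).not_ge <| by
      have h1 : (g j).asIdeal.comap (Ideal.Quotient.mk Q) ≤ (g i).asIdeal.comap (Ideal.Quotient.mk Q) :=
        Ideal.comap_mono hji
      rw [hg, hg] at h1
      exact (Ideal.comap_le_comap_iff_of_surjective _ Ideal.Quotient.mk_surjective _ _).1 h1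
  rw [← hlen, PrimeSpectrum.height_eq_orderHeight (⟨x.map (Ideal.Quotient.mk Q), inferInstance⟩ : PrimeSpectrum (R ⧸ Q))]
  refine Order.length_le_height (p := LTSeries.mk l.length g hmono) (le_of_eq (PrimeSpectrum.ext ?_))
  show ((l.last.asIdeal).comap (Ideal.Quotient.mk I)).map (Ideal.Quotient.mk Q) = x.map (Ideal.Quotient.mk Q)
  rw [hl, Ideal.comap_map_of_surjective' _ Ideal.Quotient.mk_surjective, Ideal.mk_ker, sup_eq_left.2 hx]

/-- Additivity of heights in a catenary quotient domain. -/
theorem height_quot_add [IsNoetherianRing R] (Q0 Q x : Ideal R) [Q0.IsPrime] [Q.IsPrime] [x.IsPrime]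
    (h0 : Q0 ≤ Q) (hx : Q ≤ x) (hcat : CAlg.IsCatenary (R ⧸ Q0)) :
    (x.map (Ideal.Quotient.mk Q0)).height =
      (Q.map (Ideal.Quotient.mk Q0)).height + (x.map (Ideal.Quotient.mk Q)).height := by
  haveI : (Q.map (Ideal.Quotient.mk Q0)).IsPrime := Ideal.isPrime_map_quotientMk_of_isPrime h0
  haveI : (x.map (Ideal.Quotient.mk Q0)).IsPrime := Ideal.isPrime_map_quotientMk_of_isPrime (h0.trans hx)
  rw [GrothLib.Altitude.height_eq_add_of_isCatenary hcat (Q.map (Ideal.Quotient.mk Q0))
    (x.map (Ideal.Quotient.mk Q0)) (Ideal.map_mono hx), height_quot_quot Q0 Q x h0]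

variable {S : Type u} [CommRing S] [Algebra R S]

/-- Going down passes to quotients. -/
theorem hasGoingDown_quotient [Algebra.HasGoingDown R S] (I : Ideal R) :
    Algebra.HasGoingDown (R ⧸ I) (S ⧸ I.map (algebraMap R S)) := by
  refine ⟨fun {p} _ Q _ hlt => ?_⟩
  let p0 := p.comap (Ideal.Quotient.mk I)
  let Q0 := Q.comap (Ideal.Quotient.mk (I.map (algebraMap R S)))
  have hQ : Q0.under R = (Q.under (R ⧸ I)).comap (Ideal.Quotient.mk I) := rfl
  obtain ⟨P, hPQ, _, hP⟩ := Algebra.HasGoingDown.exists_ideal_le_liesOver_of_lt (p := p0) Q0 (by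
    rw [hQ]
    exact lt_of_le_not_ge (Ideal.comap_mono hlt.le) fun h =>
      hlt.not_ge ((Ideal.comap_le_comap_iff_of_surjective _ Ideal.Quotient.mk_surjective _ _).1 h))
  have hIP : I.map (algebraMap R S) ≤ P := Ideal.map_le_iff_le_comap.2 fun r hr => by
    have : r ∈ p0 := by
      rw [Ideal.mem_comap, Ideal.Quotient.eq_zero_iff_mem.2 hr]
      exact zero_mem _
    rw [hP.over] at this
    exact this
  refine ⟨P.map (Ideal.Quotient.mk _), Ideal.map_le_iff_le_comap.2 hPQ,
    Ideal.isPrime_map_quotientMk_of_isPrime hIP, ⟨?_⟩⟩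
  refine Ideal.comap_injective_of_surjective _ Ideal.Quotient.mk_surjective ?_
  show p0 = ((P.map (Ideal.Quotient.mk (I.map (algebraMap R S)))).comap (Ideal.Quotient.mk _)).comap (algebraMap R S)
  rw [Ideal.comap_map_of_surjective' _ Ideal.Quotient.mk_surjective, Ideal.mk_ker, sup_eq_left.2 hIP]
  exact hP.over

/-- The height formula along going down, read in quotients. -/
theorem height_quot_eq_add [IsNoetherianRing R] [IsNoetherianRing S] [Algebra.HasGoingDown R S] (I q : Ideal R) [q.IsPrime] (q' : Ideal S)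
    [q'.IsPrime] (hq : q'.comap (algebraMap R S) = q) (hI : I ≤ q) :
    (q'.map (Ideal.Quotient.mk (I.map (algebraMap R S)))).height =
      (q.map (Ideal.Quotient.mk I)).height + (q'.map (Ideal.Quotient.mk (q.map (algebraMap R S)))).height := by
  have hle : I.map (algebraMap R S) ≤ q' := Ideal.map_le_iff_le_comap.2 (hI.trans hq.ge)
  haveI : (q.map (Ideal.Quotient.mk I)).IsPrime := Ideal.isPrime_map_quotientMk_of_isPrime hI
  haveI : (q'.map (Ideal.Quotient.mk (I.map (algebraMap R S)))).IsPrime :=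
    Ideal.isPrime_map_quotientMk_of_isPrime hle
  haveI := hasGoingDown_quotient (S := S) I
  haveI : (q'.map (Ideal.Quotient.mk (I.map (algebraMap R S)))).LiesOver (q.map (Ideal.Quotient.mk I)) := ⟨by
    refine Ideal.comap_injective_of_surjective _ Ideal.Quotient.mk_surjective ?_
    rw [Ideal.comap_map_of_surjective' _ Ideal.Quotient.mk_surjective, Ideal.mk_ker, sup_eq_left.2 hI]
    show q = ((q'.map (Ideal.Quotient.mk (I.map (algebraMap R S)))).comap (Ideal.Quotient.mk _)).comap (algebraMap R S)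
    rw [Ideal.comap_map_of_surjective' _ Ideal.Quotient.mk_surjective, Ideal.mk_ker, sup_eq_left.2 hle, hq]⟩
  rw [Ideal.height_eq_height_add_of_liesOver_of_hasGoingDown (q.map (Ideal.Quotient.mk I))]
  congr 1
  have hcomm : (q.map (Ideal.Quotient.mk I)).map (algebraMap (R ⧸ I) (S ⧸ I.map (algebraMap R S))) =
      (q.map (algebraMap R S)).map (Ideal.Quotient.mk (I.map (algebraMap R S))) := by
    rw [Ideal.map_map, Ideal.map_map]
    rfl
  rw [hcomm]
  exact height_quot_quot _ _ _ (Ideal.map_mono hI)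

/-- A minimal prime over the extension has height zero in the quotient. -/
theorem height_quot_eq_zero {T : Type u} [CommRing T] {J Q : Ideal T} (h : Q ∈ J.minimalPrimes) :
    (Q.map (Ideal.Quotient.mk J)).height = 0 := by
  haveI := h.1.1
  haveI : (Q.map (Ideal.Quotient.mk J)).IsPrime := Ideal.isPrime_map_quotientMk_of_isPrime h.1.2
  rw [Ideal.height_eq_zero_iff, minimalPrimes]
  refine ⟨⟨inferInstance, bot_le⟩, fun P hP hPQ => ?_⟩
  haveI := hP.1
  have h1 : J ≤ P.comap (Ideal.Quotient.mk J) := fun r hr => by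
    rw [Ideal.mem_comap, Ideal.Quotient.eq_zero_iff_mem.2 hr]
    exact zero_mem _
  have h2 : P.comap (Ideal.Quotient.mk J) ≤ Q := by
    refine (Ideal.comap_mono hPQ).trans ?_
    rw [Ideal.comap_map_of_surjective' _ Ideal.Quotient.mk_surjective, Ideal.mk_ker, sup_eq_left.2 h.1.2]
  rw [Ideal.map_le_iff_le_comap]
  exact h.2 ⟨inferInstance, h1⟩ h2

/-- Over a prime, the height in the quotient is unchanged at a minimal prime of the extension. -/
theorem height_quot_minimal [IsNoetherianRing R] [IsNoetherianRing S] [Algebra.HasGoingDown R S] (I q : Ideal R) [q.IsPrime] (q' : Ideal S)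
    (hq : q'.comap (algebraMap R S) = q) (hq' : q' ∈ (q.map (algebraMap R S)).minimalPrimes) (hI : I ≤ q) :
    (q'.map (Ideal.Quotient.mk (I.map (algebraMap R S)))).height = (q.map (Ideal.Quotient.mk I)).height := by
  haveI := hq'.1.1
  rw [height_quot_eq_add I q q' hq hI, height_quot_eq_zero hq', add_zero]

/-- Minimal primes over the extension of a prime lie over it. -/
theorem comap_of_minimalPrimes [Algebra.HasGoingDown R S] (p : Ideal R) [p.IsPrime] {Q : Ideal S}
    (hQ : Q ∈ (p.map (algebraMap R S)).minimalPrimes) : Q.comap (algebraMap R S) = p := by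
  haveI := hQ.1.1
  haveI : Q.LiesOver (Q.under R) := ⟨rfl⟩
  have hle : p ≤ Q.comap (algebraMap R S) := Ideal.map_le_iff_le_comap.1 hQ.1.2
  obtain ⟨P, hPQ, _, hP⟩ := Q.exists_ideal_le_liesOver_of_le (p := p) (q := Q.under R) hle
  have : Q ≤ P := hQ.2 ⟨‹P.IsPrime›, Ideal.map_le_iff_le_comap.2 hP.over.le⟩ hPQ
  rw [le_antisymm this hPQ]
  exact hP.over.symm

/-- The height of a cover is at most one. -/
theorem height_quot_covBy {R : Type u} [CommRing R] [IsNoetherianRing R] {x y : PrimeSpectrum R} (h : x ⋖ y) :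
    (y.asIdeal.map (Ideal.Quotient.mk x.asIdeal)).height ≤ 1 := by
  haveI : (y.asIdeal.map (Ideal.Quotient.mk x.asIdeal)).IsPrime := Ideal.isPrime_map_quotientMk_of_isPrime h.lt.le
  refine (Ideal.height_le_iff (n := 1)).2 fun z hz hlt => ?_
  haveI := hz
  let t : PrimeSpectrum R := ⟨z.comap (Ideal.Quotient.mk x.asIdeal), Ideal.IsPrime.comap _⟩
  have hxt : x ≤ t := fun r hr => by
    show Ideal.Quotient.mk x.asIdeal r ∈ z
    rw [Ideal.Quotient.eq_zero_iff_mem.2 hr]
    exact zero_mem _
  rcases hxt.eq_or_lt with he | hlt'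
  · have hzbot : z = ⊥ := by
      rw [← Ideal.map_comap_of_surjective _ Ideal.Quotient.mk_surjective z]
      show Ideal.map _ t.asIdeal = ⊥
      rw [← he]
      exact Ideal.map_quotient_self x.asIdeal
    rw [hzbot, Ideal.height_bot]
    exact_mod_cast Nat.zero_lt_one
  · refine absurd (show t < y from lt_of_le_of_ne ?_ fun he => hlt.ne ?_) (h.2 hlt')
    · refine (Ideal.comap_mono hlt.le).trans ?_
      rw [Ideal.comap_map_of_surjective' _ Ideal.Quotient.mk_surjective, Ideal.mk_ker, sup_eq_left.2 h.lt.le]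
    · rw [← he]
      exact (Ideal.map_comap_of_surjective _ Ideal.Quotient.mk_surjective z).symm

end GrothLib.Ratliff
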